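import Cfsg.Agent.Lib.ClassesSU.Dual
import Cfsg.Agent.Lib.ClassesSL.Count
import Cfsg.Agent.Lib.LinearOrders.UnitAlgebra

/-!
Counting self-dual sequences.
-/

set_option autoImplicit false
set_option linter.unusedSectionVars false
set_option linter.style.haveILetI false

namespace Cfsg.Agent.Lib.ClassesSU

open Polynomial
open Cfsg.Agent.Lib.Unitary (conj conj_apply)
open Cfsg.Agent.Lib.ClassesGLBound
open Cfsg.Agent.Lib.ClassesSL

universe u

variable {F : Type u} [Field F] [Fintype F] {q n m : ℕ} (hF : Fintype.card F = q ^ 2)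

/-- Self-dual monic polynomials. -/
def SDual (f : F[X]) : Prop := dualP hF f = f

theorem SDual.coeff_eq {f : F[X]} (h : SDual hF f) (hf : f.coeff 0 ≠ 0) {i : ℕ} (hi : i ≤ f.natDegree) :
    conj hF (f.coeff i) = conj hF (f.coeff 0) * f.coeff (f.natDegree - i) := by
  have h1 := congrArg (fun g : F[X] => g.coeff (f.natDegree - i)) h
  beta_reduce at h1
  rw [coeff_dualP hF f (Nat.sub_le _ _), Nat.sub_sub_self hi] at h1
  rw [← h1, ← mul_assoc, mul_inv_cancel₀ (conj_ne_zero hF hf), one_mul]

theorem sdual_of_coeff {f : F[X]} (hf : f.coeff 0 ≠ 0)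
    (h : ∀ i ≤ f.natDegree, conj hF (f.coeff i) = conj hF (f.coeff 0) * f.coeff (f.natDegree - i)) :
    SDual hF f := by
  show dualP hF f = f
  ext i
  rcases le_or_gt i f.natDegree with hi | hi
  · rw [coeff_dualP hF f hi, h _ (Nat.sub_le _ _), Nat.sub_sub_self hi, ← mul_assoc,
      inv_mul_cancel₀ (conj_ne_zero hF hf), one_mul]
  · rw [coeff_eq_zero_of_natDegree_lt hi,
      coeff_eq_zero_of_natDegree_lt (by rwa [natDegree_dualP hF hf])]

theorem SDual.norm_one {f : F[X]} (h : SDual hF f) (hm : f.Monic) (hf : f.coeff 0 ≠ 0) :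
    f.coeff 0 ^ (q + 1) = 1 := by
  have h1 := h.coeff_eq hF hf (i := f.natDegree) le_rfl
  rw [Nat.sub_self, hm.coeff_natDegree, map_one, conj_apply] at h1
  rw [pow_succ]; exact h1.symm

include hF in
theorem card_norm_one_units : Nat.card {u : Fˣ // u ^ (q + 1) = 1} = q + 1 := by
  exact (Unitary.card_normHom hF).1

/-- The weight of a degree. -/
def w' (q d : ℕ) : ℕ := if d = 0 then 1 else (q + 1) * q ^ (d - 1)

theorem card_fixed_le (m : ℕ) (τ : (Fin m → F) → (Fin m → F))
    (hτ : ∀ (a b : Fin m → F) (c : F), τ (a + c • b) = τ a + conj hF c • τ b) :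
    Nat.card {v : Fin m → F // τ v = v} ≤ q ^ m := by
  classical
  obtain ⟨θ, hθ⟩ : ∃ θ : F, conj hF θ - θ ≠ 0 := by
    by_contra hall
    simp only [not_exists, not_not] at hall
    exact LinearOrders.conj_ne_id hF (RingHom.ext fun x => sub_eq_zero.1 (hall x))
  let S := {v : Fin m → F // τ v = v}
  let E : S × S → (Fin m → F) := fun p => p.1.1 + θ • p.2.1
  have hE : Function.Injective E := by
    rintro ⟨a, b⟩ ⟨a', b'⟩ h
    have h' := congrArg τ h
    simp only [E] at h h'
    rw [hτ, hτ, a.2, b.2, a'.2, b'.2] at h'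
    have hb : b.1 = b'.1 := funext fun j => by
      have e1 := congrFun h j
      have e2 := congrFun h' j
      simp only [Pi.add_apply, Pi.smul_apply, smul_eq_mul] at e1 e2
      refine mul_left_cancel₀ hθ ?_
      linear_combination e2 - e1
    refine Prod.ext (Subtype.ext ?_) (Subtype.ext hb)
    rw [hb] at h
    exact add_right_cancel h
  have h := Nat.card_le_card_of_injective E hE
  rw [Nat.card_prod, Nat.card_fun, Nat.card_fin, Nat.card_eq_fintype_card (α := F), hF, ← pow_mul,
    mul_comm 2, pow_mul, ← sq] at h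
  exact (Nat.pow_le_pow_iff_left (by norm_num)).1 h

/-- Self-dual polynomials of a given degree. -/
abbrev W' (d : ℕ) : Type _ := {g : F[X] // ((g.Monic ∧ g.natDegree = d) ∧ g.coeff 0 ≠ 0) ∧ SDual hF g}

theorem card_W' (d : ℕ) : Finite (W' hF d) ∧ Nat.card (W' hF d) ≤ w' q d := by
  classical
  rcases Nat.eq_zero_or_pos d with rfl | hd
  · haveI : Subsingleton (W' hF 0) := ⟨fun a b => Subtype.ext (by
      rw [eq_one_of_monic_natDegree_zero a.2.1.1.1 a.2.1.1.2,
        eq_one_of_monic_natDegree_zero b.2.1.1.1 b.2.1.1.2])⟩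
    refine ⟨inferInstance, ?_⟩
    rw [w', if_pos rfl]
    exact Finite.card_le_one_iff_subsingleton.2 inferInstance
  obtain ⟨m, rfl⟩ : ∃ m, d = m + 1 := ⟨d - 1, by omega⟩
  let K := {u : Fˣ // u ^ (q + 1) = 1}
  let τ : K → (Fin m → F) → (Fin m → F) := fun c v j => (c.1 : F) * conj hF (v (Fin.rev j))
  let f : W' hF (m + 1) → Σ c : K, {v : Fin m → F // τ c v = v} := fun g =>
    ⟨⟨Units.mk0 (g.1.coeff 0) g.2.1.2, Units.ext (by
        rw [Units.val_pow_eq_pow_val]; exact g.2.2.norm_one hF g.2.1.1.1 g.2.1.2)⟩,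
      fun j => g.1.coeff ((j : ℕ) + 1), funext fun j => by
        show g.1.coeff 0 * conj hF (g.1.coeff ((Fin.rev j : ℕ) + 1)) = g.1.coeff ((j : ℕ) + 1)
        have hj := j.isLt
        rw [g.2.2.coeff_eq hF g.2.1.2 (by rw [g.2.1.1.2, Fin.val_rev]; omega), g.2.1.1.2, ← mul_assoc,
          show g.1.coeff 0 * conj hF (g.1.coeff 0) = 1 by
            rw [conj_apply, ← pow_succ']; exact g.2.2.norm_one hF g.2.1.1.1 g.2.1.2,
          one_mul]
        congr 1
        rw [Fin.val_rev]; omega⟩
  have hf : Function.Injective f := fun g g' h => by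
    let pr : (Σ c : K, {v : Fin m → F // τ c v = v}) → F × (Fin m → F) := fun s => ((s.1.1 : F), s.2.1)
    have e := congrArg pr h
    have e1 : g.1.coeff 0 = g'.1.coeff 0 := congrArg Prod.fst e
    have e2 := congrArg Prod.snd e
    refine Subtype.ext (Polynomial.ext fun i => ?_)
    rcases Nat.eq_zero_or_pos i with rfl | hi
    · exact e1
    rcases Nat.lt_or_ge i (m + 1) with him | him
    · have := congrFun e2 ⟨i - 1, by omega⟩
      simpa [pr, f, Nat.sub_add_cancel hi] using this
    rcases eq_or_lt_of_le him with rfl | him'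
    · have a1 := g.2.1.1.1.coeff_natDegree
      have a2 := g'.2.1.1.1.coeff_natDegree
      rw [g.2.1.1.2] at a1
      rw [g'.2.1.1.2] at a2
      rw [a1, a2]
    · rw [coeff_eq_zero_of_natDegree_lt (by rw [g.2.1.1.2]; omega),
        coeff_eq_zero_of_natDegree_lt (by rw [g'.2.1.1.2]; omega)]
  haveI : Finite (W' hF (m + 1)) := Finite.of_injective f hf
  refine ⟨inferInstance, (Nat.card_le_card_of_injective f hf).trans ?_⟩
  rw [Nat.card_sigma, w', if_neg (by omega), Nat.add_sub_cancel]
  refine le_trans (Finset.sum_le_card_nsmul _ _ (q ^ m) fun c _ => card_fixed_le hF m (τ c) ?_) ?_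
  · intro a b x
    funext j
    simp only [τ, Pi.add_apply, Pi.smul_apply, smul_eq_mul, map_add, map_mul]
    ring
  · rw [Finset.card_univ, ← Nat.card_eq_fintype_card, card_norm_one_units hF, smul_eq_mul]

/-- Self-dual sequences. -/
abbrev TS (N n : ℕ) : Type _ := {t : T F N n // ∀ i, SDual hF (t.1 i)}

/-- The numerical bound for the number of sequences. -/
def kk' (q : ℕ) : ℕ → ℕ → ℕ
  | 0, n => if n = 0 then 1 else 0
  | N + 1, n => ∑ d ∈ Finset.range (n / (N + 1) + 1), w' q d * kk' q N (n - (N + 1) * d)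

theorem kk'_zero_right (q : ℕ) : ∀ N, kk' q N 0 = 1
  | 0 => rfl
  | N + 1 => by simp [kk', w', kk'_zero_right q N]

noncomputable instance instFiniteTS (N n : ℕ) : Finite (TS hF N n) :=
  haveI := (card_T F N n).1
  Subtype.finite

theorem card_TS : ∀ N n, Nat.card (TS hF N n) ≤ kk' q N n
  | 0, n => by
    rcases Nat.eq_zero_or_pos n with rfl | hn
    · rw [kk'_zero_right]
      exact Finite.card_le_one_iff_subsingleton.2 inferInstance
    · haveI : IsEmpty (TS hF 0 n) := ⟨fun g => hn.ne' (by simpa using g.1.2.2.symm)⟩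
      simp
  | N + 1, n => by
    haveI : ∀ d : Fin (n / (N + 1) + 1), Finite (W' hF d × TS hF N (n - (N + 1) * d)) := fun d => by
      haveI := (card_W' hF d).1
      infer_instance
    have hsum : ∀ g : TS hF (N + 1) n,
        (∑ i : Fin N, ((i : ℕ) + 1) * (g.1.1 i.castSucc).natDegree) +
          (N + 1) * (g.1.1 (Fin.last N)).natDegree = n := fun g => by
      have := g.1.2.2
      rw [Fin.sum_univ_castSucc] at this
      simpa using this
    let f : TS hF (N + 1) n → Σ d : Fin (n / (N + 1) + 1), W' hF d × TS hF N (n - (N + 1) * d) := fun g =>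
      ⟨⟨(g.1.1 (Fin.last N)).natDegree, Nat.lt_succ_of_le ((Nat.le_div_iff_mul_le (by omega)).2 (by
          have := hsum g; rw [mul_comm]; omega))⟩,
        ⟨g.1.1 (Fin.last N), ⟨⟨(g.1.2.1 _).1, rfl⟩, (g.1.2.1 _).2⟩, g.2 _⟩,
        ⟨⟨fun i => g.1.1 i.castSucc, fun i => g.1.2.1 _, by
          have := hsum g
          show (∑ i : Fin N, ((i : ℕ) + 1) * (g.1.1 i.castSucc).natDegree) =
            n - (N + 1) * (g.1.1 (Fin.last N)).natDegree
          omega⟩, fun i => g.2 _⟩⟩
    have hf : Function.Injective f := by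
      intro g g' h
      let pr : (Σ d : Fin (n / (N + 1) + 1), W' hF d × TS hF N (n - (N + 1) * d)) → Fin (N + 1) → F[X] :=
        fun s => Fin.snoc s.2.2.1.1 s.2.1.1
      have hpr : ∀ x, pr (f x) = x.1.1 := fun x => Fin.snoc_init_self x.1.1
      exact Subtype.ext (Subtype.ext ((hpr g).symm.trans ((congrArg pr h).trans (hpr g'))))
    refine (Nat.card_le_card_of_injective f hf).trans ?_
    rw [Nat.card_sigma, kk', ← Fin.sum_univ_eq_sum_range]
    refine Finset.sum_le_sum fun d _ => ?_
    rw [Nat.card_prod]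
    exact Nat.mul_le_mul (card_W' hF d).2 (card_TS N _)

noncomputable instance (N : ℕ) : Fintype (TS hF N N) := Fintype.ofFinite _

/-- The index of the subgroup of norm-one elements generated by the corresponding powers. -/
noncomputable def gam' (q : ℕ) (t : Fin n → F[X]) : ℕ :=
  Nat.gcd (q + 1) ((supp t).gcd fun j => (j : ℕ) + 1)

theorem gam'_pos (t : Fin n → F[X]) : 0 < gam' q t := Nat.gcd_pos_of_pos_left _ (by omega)

theorem detT_norm_one (t : TS hF n n) : detT t.1.1 ^ (q + 1) = 1 := by
  rw [detT, ← Finset.prod_pow]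
  refine Finset.prod_eq_one fun j _ => ?_
  have hneg : ∀ k : ℕ, ((-1 : F) ^ k) ^ (q + 1) = 1 := fun k => by
    rw [← pow_mul, mul_comm, pow_mul, pow_succ, Unitary.neg_pow_q hF, one_pow, neg_one_mul, neg_neg,
      one_pow]
  rw [pow_right_comm, mul_pow, (t.2 j).norm_one hF (t.1.2.1 j).1 (t.1.2.1 j).2, mul_one, hneg, one_pow]

include hF in
theorem exists_middle (l : Fˣ) (hl : l ^ (q + 1) = 1) : ∃ r : F, r ≠ 0 ∧ conj hF r * (l : F) = r := by
  classical
  have hq := Unitary.one_lt_q hF
  obtain ⟨γ, hγ⟩ := IsCyclic.exists_generator (α := Fˣ)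
  obtain ⟨k, hk⟩ := Submonoid.mem_powers_iff _ _ |>.1 (mem_powers_iff_mem_zpowers.2 (hγ l))
  have hord : orderOf γ = (q + 1) * (q - 1) := by
    rw [orderOf_eq_card_of_forall_mem_zpowers hγ, Nat.card_eq_fintype_card, Fintype.card_units, hF,
      ← Nat.sq_sub_sq q 1, one_pow]
  rw [← hk, ← pow_mul] at hl
  have h1 : q - 1 ∣ k := by
    have := orderOf_dvd_of_pow_eq_one hl
    rw [hord, mul_comm k] at this
    exact Nat.dvd_of_mul_dvd_mul_left (by omega) this
  obtain ⟨s, rfl⟩ := h1
  refine ⟨(((γ ^ s)⁻¹ : Fˣ) : F), Units.ne_zero _, ?_⟩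
  rw [conj_apply, ← Units.val_pow_eq_pow_val, ← Units.val_mul]
  refine congrArg Units.val ?_
  rw [← hk, inv_pow, ← pow_mul, inv_mul_eq_iff_eq_mul, eq_mul_inv_iff_mul_eq, ← pow_add,
    mul_comm (q - 1), Nat.mul_sub, mul_one, Nat.sub_add_cancel (Nat.le_mul_of_pos_right s (by omega))]

/-- The multipliers of the coefficients. -/
noncomputable def mu (l r : F) (d i : ℕ) : F := if 2 * i < d then l else if 2 * i = d then r else 1

/-- Scaling the lower half of the coefficients. -/
noncomputable def scaleP (l r : F) (g : F[X]) : F[X] :=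
  ∑ i ∈ Finset.range (g.natDegree + 1), C (mu l r g.natDegree i * g.coeff i) * X ^ i

theorem coeff_scaleP (l r : F) (g : F[X]) (i : ℕ) :
    (scaleP l r g).coeff i = mu l r g.natDegree i * g.coeff i := by
  rw [scaleP, finset_sum_coeff]
  simp only [coeff_C_mul, coeff_X_pow, mul_ite, mul_one, mul_zero]
  rw [Finset.sum_ite_eq]
  split_ifs with h
  · rfl
  · rw [coeff_eq_zero_of_natDegree_lt (by simp at h; omega), mul_zero]

theorem scaleP_spec {g : F[X]} (hg : g.Monic) (hg0 : g.coeff 0 ≠ 0) (hd : 0 < g.natDegree)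
    (hs : SDual hF g) {l r : F} (hl : l ^ (q + 1) = 1) (hl0 : l ≠ 0) (hr : conj hF r * l = r) :
    (scaleP l r g).Monic ∧ (scaleP l r g).natDegree = g.natDegree ∧
      (scaleP l r g).coeff 0 = l * g.coeff 0 ∧ SDual hF (scaleP l r g) := by
  set d := g.natDegree with hdd
  have htop : (scaleP l r g).coeff d = 1 := by
    rw [coeff_scaleP, ← hdd, mu, if_neg (by omega), if_neg (by omega), one_mul]
    exact hg.coeff_natDegree
  have hdeg : (scaleP l r g).natDegree = d := by
    refine le_antisymm (natDegree_le_iff_coeff_eq_zero.2 fun i hi => ?_)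
      (le_natDegree_of_ne_zero (by rw [htop]; exact one_ne_zero))
    rw [coeff_scaleP, coeff_eq_zero_of_natDegree_lt (by omega), mul_zero]
  have hm : (scaleP l r g).Monic := by
    show (scaleP l r g).coeff (scaleP l r g).natDegree = 1
    rw [hdeg, htop]
  have h0 : (scaleP l r g).coeff 0 = l * g.coeff 0 := by
    rw [coeff_scaleP, ← hdd, mu, if_pos (by omega)]
  have hll : conj hF l * l = 1 := by rw [conj_apply, ← pow_succ]; exact hl
  refine ⟨hm, hdeg, h0, sdual_of_coeff hF (by rw [h0]; exact mul_ne_zero hl0 hg0) fun i hi => ?_⟩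
  rw [hdeg] at hi ⊢
  have he := hs.coeff_eq hF hg0 (i := i) (hdd ▸ hi)
  rw [← hdd] at he
  rw [h0, coeff_scaleP, coeff_scaleP, ← hdd, map_mul, map_mul, he]
  have hmu : conj hF (mu l r d i) = conj hF l * mu l r d (d - i) := by
    rcases lt_trichotomy (2 * i) d with h | h | h
    · rw [mu, if_pos h, mu, if_neg (by omega), if_neg (by omega), mul_one]
    · rw [mu, if_neg (by omega), if_pos h, mu, if_neg (by omega), if_pos (by omega)]
      nth_rw 2 [← hr]
      rw [mul_left_comm, hll, mul_one]
    · rw [mu, if_neg (by omega), if_neg (by omega), mu, if_pos (by omega), map_one, hll]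
  rw [hmu]; ring

theorem scaleP_injective {l r : F} (hl : l ≠ 0) (hr : r ≠ 0) {g g' : F[X]}
    (hd : g.natDegree = g'.natDegree) (h : scaleP l r g = scaleP l r g') : g = g' := by
  ext i
  have h1 := congrArg (fun p : F[X] => p.coeff i) h
  simp only [coeff_scaleP, hd] at h1
  refine mul_left_cancel₀ ?_ h1
  unfold mu
  split_ifs <;> first | assumption | exact one_ne_zero

theorem sum_gam'_det_one_le [DecidableEq F] :
    (q + 1) * ∑ t ∈ Finset.univ.filter (fun t : TS hF n n => detT t.1.1 = 1), gam' q t.1.1 ≤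
      ∑ t : TS hF n n, gam' q t.1.1 ^ 2 := by
  classical
  rw [← Finset.sum_fiberwise (Finset.univ.filter fun t : TS hF n n => detT t.1.1 = 1)
      (fun t => supp t.1.1) (fun t => gam' q t.1.1), Finset.mul_sum,
    ← Finset.sum_fiberwise Finset.univ (fun t : TS hF n n => supp t.1.1) (fun t => gam' q t.1.1 ^ 2)]
  refine Finset.sum_le_sum fun E _ => ?_
  let K := (Unitary.normHom F q).ker
  have hK : ∀ c : Fˣ, c ∈ K ↔ c ^ (q + 1) = 1 := fun c => MonoidHom.mem_ker
  let S : K → Finset (TS hF n n) := fun v =>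
    Finset.univ.filter fun t => supp t.1.1 = E ∧ detT t.1.1 = ((v : Fˣ) : F)
  set γ := Nat.gcd (q + 1) (E.gcd fun j => (j : ℕ) + 1) with hγ
  have hle : ∀ (j : Fin n), j ∈ E → ∀ (l v : K), (S v).card ≤ (S (l ^ ((j : ℕ) + 1) * v)).card := by
    intro j hjE l v
    obtain ⟨r, hr0, hr⟩ := exists_middle hF (l : Fˣ) ((hK _).1 l.2)
    have hl : ((l : Fˣ) : F) ^ (q + 1) = 1 := by
      rw [← Units.val_pow_eq_pow_val, (hK _).1 l.2, Units.val_one]
    have hjd : ∀ t ∈ S v, 0 < (t.1.1 j).natDegree := fun t ht =>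
      natDegree_pos_of_supp (by rw [(Finset.mem_filter.1 ht).2.1]; exact hjE)
    let sc : ∀ t : TS hF n n, 0 < (t.1.1 j).natDegree → TS hF n n := fun t h =>
      have hp := scaleP_spec hF (t.1.2.1 j).1 (t.1.2.1 j).2 h (t.2 j) hl (Units.ne_zero _) hr
      ⟨⟨Function.update t.1.1 j (scaleP ((l : Fˣ) : F) r (t.1.1 j)), fun i => by
          by_cases hi : i = j
          · rw [hi, Function.update_self]
            exact ⟨hp.1, by rw [hp.2.2.1]; exact mul_ne_zero (Units.ne_zero _) (t.1.2.1 j).2⟩
          · rw [Function.update_of_ne hi]; exact t.1.2.1 i, by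
          refine Eq.trans (Finset.sum_congr rfl fun i _ => ?_) t.1.2.2
          by_cases hi : i = j
          · rw [hi, Function.update_self, hp.2.1]
          · rw [Function.update_of_ne hi]⟩, fun i => by
        show SDual hF (Function.update t.1.1 j (scaleP ((l : Fˣ) : F) r (t.1.1 j)) i)
        by_cases hi : i = j
        · rw [hi, Function.update_self]; exact hp.2.2.2
        · rw [Function.update_of_ne hi]; exact t.2 i⟩
    have hsc : ∀ t h i, (sc t h).1.1 i = if i = j then scaleP ((l : Fˣ) : F) r (t.1.1 j) else t.1.1 i :=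
      fun t h i => Function.update_apply ..
    refine Finset.card_le_card_of_injOn
      (fun t => if h : 0 < (t.1.1 j).natDegree then sc t h else t) ?_ ?_
    · intro t ht
      have hpos := hjd t ht
      obtain ⟨-, hst, hdt⟩ := Finset.mem_filter.1 ht
      have hp := scaleP_spec hF (t.1.2.1 j).1 (t.1.2.1 j).2 hpos (t.2 j) hl (Units.ne_zero _) hr
      simp only [dif_pos hpos]
      refine Finset.mem_filter.2 ⟨Finset.mem_univ _, ?_, ?_⟩
      · rw [← hst]
        ext i
        rw [mem_supp, mem_supp, hsc t hpos]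
        by_cases hi : i = j
        · rw [if_pos hi, hi]
          refine iff_of_true (fun e => ?_) (fun e => ?_)
          · rw [e, natDegree_one] at hp; omega
          · rw [e, natDegree_one] at hpos; omega
        · rw [if_neg hi]
      · rw [detT, ← Finset.mul_prod_erase _ _ (Finset.mem_univ j)]
        rw [Finset.prod_congr rfl fun i hi => by
          show ((-1 : F) ^ ((sc t hpos).1.1 i).natDegree * ((sc t hpos).1.1 i).coeff 0) ^ ((i : ℕ) + 1) =
            ((-1 : F) ^ (t.1.1 i).natDegree * (t.1.1 i).coeff 0) ^ ((i : ℕ) + 1)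
          rw [hsc t hpos, if_neg (Finset.ne_of_mem_erase hi)]]
        rw [hsc t hpos, if_pos rfl, hp.2.1, hp.2.2.1]
        have e := hdt
        rw [detT, ← Finset.mul_prod_erase _ _ (Finset.mem_univ j)] at e
        rw [Subgroup.coe_mul, SubmonoidClass.coe_pow, Units.val_mul, Units.val_pow_eq_pow_val, ← e]
        simp only [mul_pow]
        ring
    · intro t ht t' ht' h
      simp only [dif_pos (hjd t ht), dif_pos (hjd t' ht')] at h
      have hall := fun i => congrFun (congrArg (fun s : TS hF n n => s.1.1) h) i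
      simp only [hsc] at hall
      have hne : ∀ i, i ≠ j → t.1.1 i = t'.1.1 i := fun i hi => by
        have := hall i; rwa [if_neg hi, if_neg hi] at this
      have hdj : (t.1.1 j).natDegree = (t'.1.1 j).natDegree := by
        have h1 := t.1.2.2.trans t'.1.2.2.symm
        rw [← Finset.add_sum_erase _ _ (Finset.mem_univ j),
          ← Finset.add_sum_erase _ _ (Finset.mem_univ j),
          Finset.sum_congr rfl fun i hi => by rw [hne i (Finset.ne_of_mem_erase hi)]] at h1
        exact Nat.eq_of_mul_eq_mul_left (Nat.succ_pos _) (add_right_cancel h1)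
      refine Subtype.ext (Subtype.ext (funext fun i => ?_))
      by_cases hij : i = j
      · rw [hij]
        have := hall j
        rw [if_pos rfl, if_pos rfl] at this
        exact scaleP_injective (Units.ne_zero _) hr0 hdj this
      · exact hne i hij
  let H : Subgroup K :=
    { carrier := {c | ∀ v, (S (c * v)).card = (S v).card}
      mul_mem' := fun {a b} ha hb v => by rw [mul_assoc, ha, hb]
      one_mem' := fun v => by rw [one_mul]
      inv_mem' := fun {a} ha v => by
        have := ha (a⁻¹ * v)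
        rw [← mul_assoc, mul_inv_cancel, one_mul] at this
        exact this.symm }
  have hgen : ∀ j ∈ E, ∀ l : K, l ^ ((j : ℕ) + 1) ∈ H := fun j hj l v => by
    refine le_antisymm ?_ (hle j hj l v)
    have h1 := hle j hj l⁻¹ (l ^ ((j : ℕ) + 1) * v)
    rwa [inv_pow, ← mul_assoc, inv_mul_cancel, one_mul] at h1
  have hcardK : Nat.card K = q + 1 := (Unitary.card_normHom hF).1
  have hpow : (powMonoidHom γ : K →* K).range ≤ H := by
    rintro _ ⟨c, rfl⟩
    show c ^ γ ∈ H
    refine mem_of_gcd H c ?_ (mem_of_finset_gcd H c E _ fun j hj => hgen j hj c)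
    rw [← hcardK, pow_card_eq_one']
    exact one_mem _
  let D := (powMonoidHom γ : K →* K).range
  have hD : Nat.card D * γ = q + 1 := by
    have h1 := Subgroup.card_mul_index D
    rw [IsCyclic.index_powMonoidHom_range, hcardK, Nat.gcd_eq_right (Nat.gcd_dvd_left _ _)] at h1
    exact h1
  have htot : Nat.card D * (S 1).card ≤
      (Finset.univ.filter fun t : TS hF n n => supp t.1.1 = E).card := by
    have h1 : ((D : Set K).toFinset.biUnion S).card = Nat.card D * (S 1).card := by
      rw [Finset.card_biUnion]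
      · have hall : ∀ v ∈ (D : Set K).toFinset, (S v).card = (S 1).card := fun v hv => by
          rw [Set.mem_toFinset] at hv
          have := hpow hv 1
          rwa [mul_one] at this
        rw [Finset.sum_const_nat hall, ← Nat.card_eq_card_toFinset (D : Set K)]
        rfl
      · intro a _ b _ hab
        rw [Function.onFun, Finset.disjoint_left]
        intro t ha hb
        exact hab (Subtype.ext (Units.ext
          ((Finset.mem_filter.1 ha).2.2.symm.trans (Finset.mem_filter.1 hb).2.2)))
    rw [← h1]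
    refine Finset.card_le_card fun t ht => ?_
    obtain ⟨v, -, hv⟩ := Finset.mem_biUnion.1 ht
    exact Finset.mem_filter.2 ⟨Finset.mem_univ _, (Finset.mem_filter.1 hv).2.1⟩
  rw [Finset.filter_filter,
    Finset.sum_const_nat (m := γ) fun t ht => by rw [gam', (Finset.mem_filter.1 ht).2.2],
    Finset.sum_const_nat (m := γ ^ 2) fun t ht => by rw [gam', (Finset.mem_filter.1 ht).2]]
  have hS1 : (Finset.univ.filter fun t : TS hF n n => detT t.1.1 = 1 ∧ supp t.1.1 = E).card =
      (S 1).card := by
    refine congrArg Finset.card (Finset.filter_congr fun t _ => ?_)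
    simp only [OneMemClass.coe_one, Units.val_one]
    tauto
  rw [hS1, ← hD]
  calc Nat.card D * γ * ((S 1).card * γ) = Nat.card D * (S 1).card * γ ^ 2 := by ring
    _ ≤ _ := Nat.mul_le_mul_right _ htot

/-- The extra weight. -/
def extra' (q n : ℕ) : ℕ :=
  ∑ h ∈ ((Nat.gcd n (q + 1)).divisors.erase 1), (h ^ 2 - 1) * kk' q (n / h) (n / h)

theorem sum_gam'_sq_le (hn : 1 ≤ n) :
    ∑ t : TS hF n n, gam' q t.1.1 ^ 2 ≤ kk' q n n + extra' q n := by
  classical
  have hT : Fintype.card (TS hF n n) ≤ kk' q n n := by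
    rw [← Nat.card_eq_fintype_card]; exact card_TS hF n n
  refine le_trans (b := ∑ t : TS hF n n, (1 + ∑ h ∈ (Nat.gcd n (q + 1)).divisors.erase 1,
      if h ∣ (supp t.1.1).gcd (fun j => (j : ℕ) + 1) then h ^ 2 - 1 else 0)) ?_ ?_
  · refine Finset.sum_le_sum fun t _ => ?_
    by_cases h1 : gam' q t.1.1 = 1
    · rw [h1]; simp
    · have hg : gam' q t.1.1 ∣ n := by
        have h := t.1.2.2
        conv_rhs => rw [← h]
        refine Finset.dvd_sum fun j _ => ?_
        by_cases hj : j ∈ supp t.1.1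
        · exact ((Nat.gcd_dvd_right _ _).trans (Finset.gcd_dvd hj)).mul_right _
        · rw [natDegree_eq_zero_of_not_supp hj, mul_zero]; exact dvd_zero _
      have hmem : gam' q t.1.1 ∈ (Nat.gcd n (q + 1)).divisors.erase 1 :=
        Finset.mem_erase.2 ⟨h1, Nat.mem_divisors.2 ⟨Nat.dvd_gcd hg (Nat.gcd_dvd_left _ _),
          (Nat.gcd_pos_of_pos_left _ hn).ne'⟩⟩
      refine le_trans ?_ (Nat.add_le_add_left (Finset.single_le_sum (fun _ _ => Nat.zero_le _) hmem) 1)
      rw [if_pos (show gam' q t.1.1 ∣ _ from Nat.gcd_dvd_right _ _)]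
      have := pow_pos (gam'_pos (q := q) t.1.1) 2
      omega
  · rw [Finset.sum_add_distrib, Finset.sum_const, Finset.card_univ, smul_eq_mul, mul_one,
      Finset.sum_comm, extra']
    refine Nat.add_le_add hT (Finset.sum_le_sum fun h hh => ?_)
    obtain ⟨hh1, hh2⟩ := Finset.mem_erase.1 hh
    have hhn : h ∣ n := (Nat.dvd_of_mem_divisors hh2).trans (Nat.gcd_dvd_left _ _)
    have hpos : 0 < h := Nat.pos_of_dvd_of_pos hhn hn
    rw [← Finset.sum_filter, Finset.sum_const, smul_eq_mul, mul_comm]
    refine Nat.mul_le_mul_left _ ?_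
    refine le_trans ?_ (card_TS hF (n / h) (n / h))
    obtain ⟨k, rfl⟩ := hhn
    rw [Nat.mul_div_cancel_left k hpos]
    let e : Fin k → Fin (h * k) := fun i => ⟨h * (i + 1) - 1, by
      have h1 : h * ((i : ℕ) + 1) ≤ h * k := Nat.mul_le_mul le_rfl i.2
      have : 0 < h * ((i : ℕ) + 1) := Nat.mul_pos hpos (Nat.succ_pos _)
      omega⟩
    have he : ∀ i, ((e i : Fin (h * k)) : ℕ) + 1 = h * (i + 1) := fun i => by
      have : 0 < h * ((i : ℕ) + 1) := Nat.mul_pos hpos (Nat.succ_pos _)
      show h * (i + 1) - 1 + 1 = _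
      omega
    have heinj : Function.Injective e := fun a b hab => by
      have h1 := he a
      rw [hab, he b] at h1
      exact Fin.ext (by have := Nat.eq_of_mul_eq_mul_left hpos h1; omega)
    have hcover : ∀ t : TS hF (h * k) (h * k), h ∣ (supp t.1.1).gcd (fun j => (j : ℕ) + 1) →
        ∀ j, (∀ i, e i ≠ j) → t.1.1 j = 1 := by
      intro t ht j hj
      by_contra hne
      obtain ⟨c, hc⟩ := ht.trans (Finset.gcd_dvd (mem_supp.2 hne))
      have hc0 : 0 < c := Nat.pos_of_ne_zero fun e0 => by rw [e0, mul_zero] at hc; omega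
      have hck : c ≤ k := Nat.le_of_mul_le_mul_left (by rw [← hc]; exact j.2) hpos
      refine hj ⟨c - 1, by omega⟩ (Fin.ext ?_)
      have h1 := he ⟨c - 1, by omega⟩
      simp only [Nat.sub_add_cancel hc0] at h1
      omega
    let f : {t : TS hF (h * k) (h * k) // h ∣ (supp t.1.1).gcd (fun j => (j : ℕ) + 1)} → TS hF k k :=
      fun t => ⟨⟨fun i => t.1.1.1 (e i), fun i => t.1.1.2.1 (e i), by
        apply Nat.eq_of_mul_eq_mul_left hpos
        rw [Finset.mul_sum, Finset.sum_congr rfl fun i _ => by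
          show h * (((i : ℕ) + 1) * (t.1.1.1 (e i)).natDegree) =
            (fun j : Fin (h * k) => ((j : ℕ) + 1) * (t.1.1.1 j).natDegree) (e i)
          simp only [he]; ring,
          sum_shift e heinj (fun j : Fin (h * k) => ((j : ℕ) + 1) * (t.1.1.1 j).natDegree) fun j hj => by
            simp [hcover t.1 t.2 j hj]]
        exact t.1.1.2.2⟩, fun i => t.1.2 _⟩
    have hf : Function.Injective f := fun t t' htt => by
      refine Subtype.ext (Subtype.ext (Subtype.ext (funext fun j => ?_)))
      by_cases hj : ∃ i, e i = j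
      · obtain ⟨i, rfl⟩ := hj
        exact congrFun (congrArg (fun s : TS hF k k => s.1.1) htt) i
      · simp only [not_exists] at hj
        rw [hcover t.1 t.2 j hj, hcover t'.1 t'.2 j hj]
    rw [← Fintype.card_subtype, ← Nat.card_eq_fintype_card]
    exact Nat.card_le_card_of_injective f hf

end Cfsg.Agent.Lib.ClassesSU
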