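import Cfsg.Agent.Lib.ClassesSL.Invariant
import Cfsg.Agent.Lib.Unitary.Basic
import Cfsg.Agent.Lib.TransposeConj
import Cfsg.Agent.S2587

/-!
Conjugate-reciprocal polynomials, and invariance of the elementary divisors of a unitary matrix.
-/

set_option autoImplicit false
set_option linter.unusedSectionVars false
set_option linter.style.haveILetI false

namespace Cfsg.Agent.Lib.ClassesSU

open Polynomial
open Cfsg.Agent.Lib.Unitary (conj conj_apply)
open Cfsg.Agent.Lib.ClassesGLBound
open Cfsg.Agent.Lib.ClassesSL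

universe u

variable {F : Type u} [Field F] [Fintype F] {q n : ℕ} (hF : Fintype.card F = q ^ 2)

/-- The polynomial whose roots are the conjugates of the inverses of the roots. -/
noncomputable def dualP (f : F[X]) : F[X] :=
  C ((conj hF (f.coeff 0))⁻¹) * (f.map (conj hF)).reverse

theorem conj_conj (x : F) : conj hF (conj hF x) = x := Unitary.pow_q_q hF x

theorem conj_ne_zero {x : F} (hx : x ≠ 0) : conj hF x ≠ 0 := (_root_.map_ne_zero _).2 hx

theorem coeff_dualP (f : F[X]) {i : ℕ} (hi : i ≤ f.natDegree) :
    (dualP hF f).coeff i = (conj hF (f.coeff 0))⁻¹ * conj hF (f.coeff (f.natDegree - i)) := by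
  rw [dualP, coeff_C_mul, coeff_reverse, natDegree_map, revAt_le hi, coeff_map]

theorem dualP_mul (f g : F[X]) : dualP hF (f * g) = dualP hF f * dualP hF g := by
  rw [dualP, dualP, dualP, Polynomial.map_mul, reverse_mul_of_domain, mul_coeff_zero, map_mul, mul_inv,
    C_mul]
  ring

theorem dualP_one : dualP hF (1 : F[X]) = 1 := by
  rw [dualP, coeff_one_zero, map_one, inv_one, C_1, one_mul, Polynomial.map_one, ← C_1, reverse_C]

theorem natDegree_dualP {f : F[X]} (hf : f.coeff 0 ≠ 0) :
    (dualP hF f).natDegree = f.natDegree := by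
  rw [dualP, natDegree_C_mul (inv_ne_zero (conj_ne_zero hF hf)), reverse_natDegree, natDegree_map]
  rw [natTrailingDegree_eq_zero.2 (Or.inr ?_), Nat.sub_zero]
  rw [coeff_map]; exact conj_ne_zero hF hf

theorem dualP_coeff_zero {f : F[X]} (hf : f.Monic) :
    (dualP hF f).coeff 0 = (conj hF (f.coeff 0))⁻¹ := by
  rw [coeff_dualP hF f (Nat.zero_le _), Nat.sub_zero, hf.coeff_natDegree, map_one, mul_one]

theorem monic_dualP {f : F[X]} (hf : f.coeff 0 ≠ 0) : (dualP hF f).Monic := by
  show (dualP hF f).coeff (dualP hF f).natDegree = 1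
  rw [natDegree_dualP hF hf, coeff_dualP hF f le_rfl, Nat.sub_self,
    inv_mul_cancel₀ (conj_ne_zero hF hf)]

theorem dualP_coeff_zero_ne {f : F[X]} (hf : f.Monic) (h0 : f.coeff 0 ≠ 0) :
    (dualP hF f).coeff 0 ≠ 0 := by
  rw [dualP_coeff_zero hF hf]; exact inv_ne_zero (conj_ne_zero hF h0)

theorem dualP_dualP {f : F[X]} (hf : f.Monic) (h0 : f.coeff 0 ≠ 0) :
    dualP hF (dualP hF f) = f := by
  ext i
  rcases le_or_gt i f.natDegree with hi | hi
  · rw [coeff_dualP hF _ (by rwa [natDegree_dualP hF h0]), natDegree_dualP hF h0,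
      coeff_dualP hF f (Nat.sub_le _ _), dualP_coeff_zero hF hf, Nat.sub_sub_self hi, map_inv₀, conj_conj,
      inv_inv, map_mul, map_inv₀, conj_conj, conj_conj]
    field_simp
  · rw [coeff_eq_zero_of_natDegree_lt hi, coeff_eq_zero_of_natDegree_lt]
    rwa [natDegree_dualP hF (dualP_coeff_zero_ne hF hf h0), natDegree_dualP hF h0]

theorem dualP_pow (f : F[X]) (k : ℕ) : dualP hF (f ^ k) = dualP hF f ^ k := by
  induction k with
  | zero => rw [pow_zero, pow_zero, dualP_one]
  | succ k ih => rw [pow_succ, pow_succ, dualP_mul, ih]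

theorem irreducible_dualP {f : F[X]} (hf : Irreducible f) (hm : f.Monic) (h0 : f.coeff 0 ≠ 0) :
    Irreducible (dualP hF f) := by
  refine ⟨fun hu => ?_, fun a b hab => ?_⟩
  · have h1 := natDegree_eq_zero_of_isUnit hu
    rw [natDegree_dualP hF h0] at h1
    exact hf.natDegree_pos.ne' h1
  · have hc : a.coeff 0 * b.coeff 0 ≠ 0 := by
      rw [← mul_coeff_zero, ← hab]; exact dualP_coeff_zero_ne hF hm h0
    have e : f = dualP hF a * dualP hF b := by rw [← dualP_mul, ← hab, dualP_dualP hF hm h0]
    rcases hf.isUnit_or_isUnit e with h | h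
    · left
      have h1 := natDegree_eq_zero_of_isUnit h
      rw [natDegree_dualP hF (left_ne_zero_of_mul hc)] at h1
      rw [eq_C_of_natDegree_eq_zero h1]
      exact isUnit_C.2 (isUnit_iff_ne_zero.2 (left_ne_zero_of_mul hc))
    · right
      have h1 := natDegree_eq_zero_of_isUnit h
      rw [natDegree_dualP hF (right_ne_zero_of_mul hc)] at h1
      rw [eq_C_of_natDegree_eq_zero h1]
      exact isUnit_C.2 (isUnit_iff_ne_zero.2 (right_ne_zero_of_mul hc))

/-- Evaluating the reverse at an invertible element. -/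
theorem aeval_reverse {E : Type*} [Ring E] [Algebra F E] {r ri : E} (h : r * ri = 1) (g : F[X]) :
    aeval r g.reverse = r ^ g.natDegree * aeval ri g := by
  rw [aeval_eq_sum_range' (p := g.reverse) (n := g.natDegree + 1)
      (Nat.lt_succ_of_le g.reverse_natDegree_le) r, aeval_eq_sum_range ri, Finset.mul_sum,
    ← Finset.sum_range_reflect (fun i => r ^ g.natDegree * (g.coeff i • ri ^ i))]
  refine Finset.sum_congr rfl fun i hi => ?_
  have hi' : i ≤ g.natDegree := by rw [Finset.mem_range] at hi; omega
  rw [coeff_reverse, revAt_le hi', mul_smul_comm, Nat.add_sub_cancel]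
  congr 1
  have key : ∀ k, r ^ k * ri ^ k = 1 := fun k => by
    induction k with
    | zero => simp
    | succ k ih =>
      rw [pow_succ, pow_succ', show r ^ k * r * (ri * ri ^ k) = r ^ k * (r * ri) * ri ^ k by
        simp only [mul_assoc], h, mul_one, ih]
  rw [show r ^ g.natDegree = r ^ i * r ^ (g.natDegree - i) by
    rw [← pow_add, Nat.add_sub_cancel' hi'], mul_assoc, key, mul_one]

/-- A unitary matrix has equal kernel counts at a polynomial and at its dual. -/
theorem kerCard_dualP (A : GL (Fin n) F) (hA : A ∈ Cfsg.GU n F q) {f : F[X]} (h0 : f.coeff 0 ≠ 0)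
    (k : ℕ) : kerCard A (dualP hF f) k = kerCard A f k := by
  classical
  let c := conj hF
  let As : GL (Fin n) F := Matrix.GeneralLinearGroup.map c A
  have hst : ((A : Matrix (Fin n) (Fin n) F).map c).transpose * (A : Matrix (Fin n) (Fin n) F) = 1 := by
    ext i j
    have h := hA (Pi.single j 1) (Pi.single i 1)
    simp only [Cfsg.hermForm, Units.coeHom_apply, Matrix.mulVec_single_one, Matrix.col_apply] at h
    rw [Matrix.mul_apply, Matrix.one_apply]
    refine (Finset.sum_congr rfl fun l _ => ?_).trans (h.trans ?_)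
    · exact mul_comm _ _
    · rw [Finset.sum_eq_single j (fun b _ hb => by rw [Pi.single_eq_of_ne hb, zero_mul]) (by simp)]
      rcases eq_or_ne i j with rfl | hij
      · simp
      · rw [if_neg hij, Pi.single_eq_of_ne (Ne.symm hij), zero_pow (Unitary.q_ne_zero hF), mul_zero]
  have hconj : IsConj As A⁻¹ := by
    obtain ⟨w, hw⟩ := TransposeConj.isConj_transpose (As : Matrix (Fin n) (Fin n) F)
    have e : (As : Matrix (Fin n) (Fin n) F).transpose = ((A⁻¹ : GL (Fin n) F) : Matrix (Fin n) (Fin n) F) := by
      rw [Matrix.coe_units_inv]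
      exact (Matrix.inv_eq_left_inv hst).symm
    rw [e] at hw
    exact ⟨toUnits w, Units.ext hw⟩
  obtain ⟨g, hg⟩ := isConj_iff.1 hconj
  have h2 : kerCard A⁻¹ (f.map c) k = kerCard A f k := by
    rw [← hg, kerCard_conj]
    refine (Nat.card_congr (Equiv.subtypeEquiv
      (Equiv.piCongrRight fun _ : Fin n => (RingEquiv.ofBijective c
        ⟨c.injective, Function.Involutive.surjective (conj_conj hF)⟩).toEquiv) fun v => ?_)).symm
    show _ ↔ aeval (Matrix.toLin' (As : Matrix (Fin n) (Fin n) F)) (f.map c ^ k) (c ∘ v) = 0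
    rw [← Polynomial.map_pow]
    have hev : ∀ (p : F[X]) (v : Fin n → F), aeval (Matrix.toLin' (As : Matrix (Fin n) (Fin n) F)) (p.map c) (c ∘ v) =
        c ∘ aeval (Matrix.toLin' (A : Matrix (Fin n) (Fin n) F)) p v := by
      intro p
      induction p using Polynomial.induction_on with
      | C a =>
        intro v
        rw [map_C, aeval_C, aeval_C, Module.algebraMap_end_apply, Module.algebraMap_end_apply]
        funext i
        simp
      | add p r hp hr =>
        intro v
        rw [Polynomial.map_add, map_add, map_add, LinearMap.add_apply, LinearMap.add_apply, hp, hr]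
        funext i
        simp
      | monomial m a ih =>
        intro v
        rw [pow_succ, ← mul_assoc, Polynomial.map_mul, map_X, map_mul, map_mul (aeval (R := F) _) (C a * X ^ m),
          aeval_X, aeval_X, Module.End.mul_apply, Module.End.mul_apply, Matrix.toLin'_apply, Matrix.toLin'_apply,
          show (As : Matrix (Fin n) (Fin n) F).mulVec (c ∘ v) = c ∘ (A : Matrix (Fin n) (Fin n) F).mulVec v from
            funext fun i => (RingHom.map_mulVec c _ _ i).symm, ih]
    rw [hev]
    constructor
    · intro h; rw [h]; funext i; simp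
    · intro h
      funext i
      exact (map_eq_zero c).1 (congrFun h i)
  rw [← h2]
  refine Nat.card_congr (Equiv.subtypeEquivRight fun v => ?_)
  have hinv : Matrix.toLin' (A : Matrix (Fin n) (Fin n) F) *
      Matrix.toLin' ((A⁻¹ : GL (Fin n) F) : Matrix (Fin n) (Fin n) F) = 1 := by
    rw [Module.End.mul_eq_comp, ← Matrix.toLin'_mul, ← Units.val_mul, mul_inv_cancel, Units.val_one,
      Matrix.toLin'_one]
    rfl
  have hinv' : Matrix.toLin' ((A⁻¹ : GL (Fin n) F) : Matrix (Fin n) (Fin n) F) *
      Matrix.toLin' (A : Matrix (Fin n) (Fin n) F) = 1 := by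
    rw [Module.End.mul_eq_comp, ← Matrix.toLin'_mul, ← Units.val_mul, inv_mul_cancel, Units.val_one,
      Matrix.toLin'_one]
    rfl
  rw [dualP, mul_pow, ← C_pow, map_mul, aeval_C, Module.End.mul_apply, Module.algebraMap_end_apply,
    smul_eq_zero]
  simp only [pow_ne_zero _ (inv_ne_zero (conj_ne_zero hF h0)), false_or]
  rw [map_pow, map_pow, aeval_reverse hinv, natDegree_map]
  set a := Matrix.toLin' (A : Matrix (Fin n) (Fin n) F)
  set ai := Matrix.toLin' ((A⁻¹ : GL (Fin n) F) : Matrix (Fin n) (Fin n) F)
  have hc : Commute (a ^ f.natDegree) (aeval ai (f.map c)) := by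
    have h1 : Commute a ai := hinv.trans hinv'.symm
    have : ∀ p : F[X], Commute (a ^ f.natDegree) (aeval ai p) := fun p => by
      induction p using Polynomial.induction_on' with
      | add p r hp hr => rw [map_add]; exact hp.add_right hr
      | monomial m s =>
        rw [aeval_monomial]
        exact Commute.mul_right (Algebra.commute_algebraMap_right s _) (h1.pow_pow _ _)
    exact this _
  rw [hc.mul_pow, Module.End.mul_apply]
  have hu : Function.Injective ((a ^ f.natDegree) ^ k : Module.End F (Fin n → F)) := by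
    rw [← pow_mul]
    exact ((Module.End.isUnit_iff _).1 ((IsUnit.of_mul_eq_one _ hinv).pow _)).1
  exact map_eq_zero_iff _ hu

/-- Two keys occur equally often when they are dual. -/
theorem card_fibre_dualP [DecidableEq F] (A : GL (Fin n) F) (hA : A ∈ Cfsg.GU n F q) (e : ℕ) (he : 1 ≤ e) {f : F[X]}
    (hf : Irreducible f) (hm : f.Monic) (h0 : f.coeff 0 ≠ 0) :
    Fintype.card {i // keyOf A i = (e, dualP hF f)} = Fintype.card {i // keyOf A i = (e, f)} :=
  card_fibre_eq_of_kerCard (irreducible_dualP hF hf hm h0) (monic_dualP hF h0) hf hm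
    (natDegree_dualP hF h0) (kerCard_dualP hF A hA h0) e he

/-- The components of the invariant of a unitary matrix are self-dual. -/
theorem invT_dualP (A : GL (Fin n) F) (hA : A ∈ Cfsg.GU n F q) (j : Fin n) :
    dualP hF ((invT A).1 j) = (invT A).1 j := by
  classical
  set P := (invT A).1 j with hP
  have hm : P.Monic := ((invT A).2.1 j).1
  have hP0 : P.coeff 0 ≠ 0 := ((invT A).2.1 j).2
  have hmem : ∀ f ∈ UniqueFactorizationMonoid.normalizedFactors P,
      Irreducible f ∧ f.Monic ∧ f.coeff 0 ≠ 0 := fun f hf => by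
    refine ⟨UniqueFactorizationMonoid.irreducible_of_normalized_factor f hf, ?_, fun h => hP0 ?_⟩
    · rw [← UniqueFactorizationMonoid.normalize_normalized_factor f hf]
      exact monic_normalize (UniqueFactorizationMonoid.irreducible_of_normalized_factor f hf).ne_zero
    · obtain ⟨r, hr⟩ := UniqueFactorizationMonoid.dvd_of_mem_normalizedFactors hf
      rw [hr, mul_coeff_zero, h, zero_mul]
  set M := UniqueFactorizationMonoid.normalizedFactors P with hM
  have hcount : ∀ f, Irreducible f → f.Monic → f.coeff 0 ≠ 0 →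
      Multiset.count (dualP hF f) M = Multiset.count f M := by
    intro f hf hfm hf0
    rw [hM, hP]
    show Multiset.count _ (UniqueFactorizationMonoid.normalizedFactors (tup (keyOf A) n j)) =
      Multiset.count _ (UniqueFactorizationMonoid.normalizedFactors (tup (keyOf A) n j))
    rw [← card_fibre_eq (keyOf_spec A).1, ← card_fibre_eq (keyOf_spec A).1]
    exact card_fibre_dualP hF A hA _ (by omega) hf hfm hf0
  have hnd : ∀ S : Multiset F[X], (∀ f ∈ S, f ∈ M) → (S.map (dualP hF)).prod = dualP hF S.prod := by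
    intro S
    induction S using Multiset.induction_on with
    | empty => intro _; rw [Multiset.map_zero, Multiset.prod_zero, dualP_one]
    | cons a S ih =>
      intro h
      rw [Multiset.map_cons, Multiset.prod_cons, Multiset.prod_cons,
        ih fun f hf => h f (Multiset.mem_cons_of_mem hf), dualP_mul]
  have hinj : Set.InjOn (dualP hF) {f : F[X] | f ∈ M} := fun a ha b hb h => by
    rw [← dualP_dualP hF (hmem a ha).2.1 (hmem a ha).2.2, h,
      dualP_dualP hF (hmem b hb).2.1 (hmem b hb).2.2]
  have hmap : M.map (dualP hF) = M := by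
    ext f
    by_cases hf : Irreducible f ∧ f.Monic ∧ f.coeff 0 ≠ 0
    · obtain ⟨h1, h2, h3⟩ := hf
      have hback := dualP_dualP hF h2 h3
      by_cases hg : dualP hF f ∈ M
      · conv_lhs => rw [← hback]
        rw [Multiset.count_map_eq_count _ _ hinj _ hg, hcount f h1 h2 h3]
      · have e1 : Multiset.count f (M.map (dualP hF)) = 0 := by
          refine Multiset.count_eq_zero.2 fun hmem' => hg ?_
          obtain ⟨g, hg1, hg2⟩ := Multiset.mem_map.1 hmem'
          rw [← hg2, dualP_dualP hF (hmem g hg1).2.1 (hmem g hg1).2.2]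
          exact hg1
        rw [e1, ← hcount f h1 h2 h3, Multiset.count_eq_zero.2 hg]
    · rw [Multiset.count_eq_zero.2 fun h => hf ?_, Multiset.count_eq_zero.2 fun h => hf (hmem f h)]
      obtain ⟨g, hg, rfl⟩ := Multiset.mem_map.1 h
      obtain ⟨g1, g2, g3⟩ := hmem g hg
      exact ⟨irreducible_dualP hF g1 g2 g3, monic_dualP hF g3, dualP_coeff_zero_ne hF g2 g3⟩
  have hMP : M.prod = P := eq_of_monic_of_associated
    (monic_multiset_prod_of_monic _ _ (fun f hf => (hmem f hf).2.1) |> fun h => by simpa using h) hm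
    (UniqueFactorizationMonoid.prod_normalizedFactors hm.ne_zero)
  rw [← hMP, ← hnd M fun f hf => hf, hmap]

end Cfsg.Agent.Lib.ClassesSU
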