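import Cfsg.Agent.Lib.ClassesSU.Realize
import Cfsg.Agent.Lib.ClassesSU.Count

/-!
The class number of `SU(n,q)` is at most `8.26 q^(n-1)`.
-/

set_option autoImplicit false
set_option linter.unusedSectionVars false
set_option linter.style.haveILetI false

namespace Cfsg.Agent.Lib.ClassesSU

open Polynomial
open Cfsg.Agent.Lib.Unitary (conj conj_apply suToGU suToGU_injective)
open Cfsg.Agent.Lib.ClassesGLBound
open Cfsg.Agent.Lib.ClassesSL

universe u

variable {F : Type u} [Field F] [Fintype F] {q n : ℕ} (hF : Fintype.card F = q ^ 2)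

/-- The invariant of an element of the special unitary group. -/
noncomputable def suT (x : Cfsg.SU n F q) : TS hF n n :=
  ⟨invT ((suToGU n F q x) : GL (Fin n) F), fun j => invT_dualP hF _ (suToGU n F q x).2 j⟩

/-- The invariant of a class. -/
noncomputable def clsT' : ConjClasses (Cfsg.SU n F q) → TS hF n n :=
  Quotient.lift (suT hF) fun x y h => Subtype.ext (invT_eq_iff.2
    ((Cfsg.GU n F q).subtype.map_isConj ((suToGU n F q).map_isConj (show IsConj x y from h))))

include hF in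
theorem pow_gam'_mem (A : GL (Fin n) F) (hA : A ∈ Cfsg.GU n F q) (c : Fˣ)
    (hc : c ^ (q + 1) = 1) :
    c ^ gam' q (invT A).1 ∈
      (Subgroup.centralizer {A} ⊓ Cfsg.GU n F q).map (Matrix.GeneralLinearGroup.det : GL (Fin n) F →* Fˣ) := by
  classical
  refine mem_of_gcd _ c ?_ (mem_of_finset_gcd _ c _ _ fun j hj => ?_)
  · rw [hc]; exact one_mem _
  · obtain ⟨B, hBU, hB, hdet⟩ := exists_centralising hF A hA j (mem_supp.1 hj) hc
    exact ⟨B, ⟨Subgroup.mem_centralizer_singleton_iff.2 hB.eq, hBU⟩, hdet⟩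

theorem card_fibre_le' (t : TS hF n n) :
    Nat.card {C : ConjClasses (Cfsg.SU n F q) // clsT' hF C = t} ≤ gam' q t.1.1 := by
  classical
  rcases isEmpty_or_nonempty {C : ConjClasses (Cfsg.SU n F q) // clsT' hF C = t}
    with he | ⟨⟨C0, hC0⟩⟩
  · simp
  obtain ⟨x0, rfl⟩ := ConjClasses.mk_surjective C0
  let K := (Unitary.normHom F q).ker
  let R := (powMonoidHom (gam' q t.1.1) : K →* K).range
  have hR : Nat.card (K ⧸ R) = gam' q t.1.1 := by
    show R.index = _
    rw [IsCyclic.index_powMonoidHom_range, show Nat.card K = q + 1 from (Unitary.card_normHom hF).1,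
      Nat.gcd_eq_right (show gam' q t.1.1 ∣ q + 1 from Nat.gcd_dvd_left _ _)]
  have hg : ∀ C : {C : ConjClasses (Cfsg.SU n F q) // clsT' hF C = t},
      ∃ g : Cfsg.GU n F q, g * suToGU n F q x0 * g⁻¹ = suToGU n F q (Quotient.out C.1) := fun C => by
    refine isConj_iff.1 ((Cfsg.Agent.S2587.result hF _ _).2 (invT_eq_iff.1 ?_))
    have h1 : clsT' hF C.1 = suT hF (Quotient.out C.1) := by
      conv_lhs => rw [← Quotient.out_eq C.1]
      rfl
    exact congrArg Subtype.val ((hC0.trans C.2.symm).trans h1)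
  choose g hg using hg
  have hdetK : ∀ x : Cfsg.GU n F q, Matrix.GeneralLinearGroup.det x.1 ∈ K := fun x => by
    show Matrix.GeneralLinearGroup.det x.1 ^ (q + 1) = 1
    refine Units.ext ?_
    have := Unitary.det_ne_zero_of_preserving hF (n := n) (M := x.1.1) x.2
    have h := congrArg Matrix.det (show ((x.1.1).map (conj hF)).transpose * x.1.1 = 1 from by
      ext i j
      have h := x.2 (Pi.single j 1) (Pi.single i 1)
      simp only [Cfsg.hermForm, Units.coeHom_apply, Matrix.mulVec_single_one, Matrix.col_apply] at h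
      rw [Matrix.mul_apply, Matrix.one_apply]
      refine (Finset.sum_congr rfl fun l _ => ?_).trans (h.trans ?_)
      · exact mul_comm _ _
      · rw [Finset.sum_eq_single j (fun b _ hb => by rw [Pi.single_eq_of_ne hb, zero_mul]) (by simp)]
        rcases eq_or_ne i j with rfl | hij
        · simp
        · rw [if_neg hij, Pi.single_eq_of_ne (Ne.symm hij), zero_pow (Unitary.q_ne_zero hF), mul_zero])
    rw [Matrix.det_mul, Matrix.det_transpose, ← RingHom.mapMatrix_apply, ← RingHom.map_det,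
      Matrix.det_one, conj_apply] at h
    rw [Units.val_pow_eq_pow_val, pow_succ]
    exact h
  rw [← hR]
  refine Nat.card_le_card_of_injective
    (fun C => (QuotientGroup.mk ⟨Matrix.GeneralLinearGroup.det (g C).1, hdetK (g C)⟩ : K ⧸ R))
    fun C C' h => ?_
  obtain ⟨c, hc⟩ := QuotientGroup.eq.1 h
  rw [powMonoidHom_apply] at hc
  have hc' : (c : Fˣ) ^ gam' q t.1.1 =
      (Matrix.GeneralLinearGroup.det (g C).1)⁻¹ * Matrix.GeneralLinearGroup.det (g C').1 :=
    congrArg Subtype.val hc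
  have ht : invT ((suToGU n F q x0) : GL (Fin n) F) = t.1 := congrArg Subtype.val hC0
  obtain ⟨B, hB, hdet⟩ := Subgroup.mem_map.1
    (pow_gam'_mem hF ((suToGU n F q x0) : GL (Fin n) F) (suToGU n F q x0).2 (c : Fˣ) c.2)
  obtain ⟨hB1, hBU⟩ := Subgroup.mem_inf.1 hB
  rw [ht, hc'] at hdet
  have hB' := Subgroup.mem_centralizer_singleton_iff.1 hB1
  let B0 : Cfsg.GU n F q := ⟨B, hBU⟩
  set h' := g C' * (g C * B0)⁻¹ with hh'
  have h1 : Matrix.GeneralLinearGroup.det (h' : GL (Fin n) F) = 1 := by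
    rw [hh', Subgroup.coe_mul, InvMemClass.coe_inv, Subgroup.coe_mul, map_mul, map_inv, map_mul, hdet]
    group
  let s : Cfsg.SU n F q := ⟨⟨((h' : GL (Fin n) F) : Matrix (Fin n) (Fin n) F), congrArg Units.val h1⟩, h'.2⟩
  have hs : suToGU n F q s = h' := Subtype.ext (Units.ext rfl)
  refine Subtype.ext ?_
  rw [← Quotient.out_eq C.1, ← Quotient.out_eq C'.1]
  refine ConjClasses.mk_eq_mk_iff_isConj.2 (isConj_iff.2 ⟨s, ?_⟩)
  apply suToGU_injective
  rw [map_mul, map_mul, map_inv, hs, ← hg C, ← hg C', hh']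
  have hB0 : B0 * suToGU n F q x0 = suToGU n F q x0 * B0 := Subtype.ext hB'
  have h2 : B0⁻¹ * suToGU n F q x0 * B0 = suToGU n F q x0 := by
    rw [mul_assoc, ← hB0, inv_mul_cancel_left]
  calc _ = g C' * (B0⁻¹ * suToGU n F q x0 * B0) * (g C')⁻¹ := by group
    _ = _ := by rw [h2]

include hF in
theorem mul_card_conjClasses_le (hn : 1 ≤ n) :
    (q + 1) * Nat.card (ConjClasses (Cfsg.SU n F q)) ≤ kk' q n n + extra' q n := by
  classical
  haveI : Finite (Cfsg.SU n F q) := inferInstance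
  letI : Fintype (ConjClasses (Cfsg.SU n F q)) := Fintype.ofFinite _
  refine le_trans ?_ (sum_gam'_sq_le hF hn)
  refine le_trans (Nat.mul_le_mul_left _ ?_) (sum_gam'_det_one_le hF (n := n))
  rw [Nat.card_eq_fintype_card, ← Finset.card_univ,
    Finset.card_eq_sum_card_fiberwise (f := clsT' hF)
      (t := Finset.univ.filter fun t : TS hF n n => detT t.1.1 = 1)]
  · refine Finset.sum_le_sum fun t _ => le_trans ?_ (card_fibre_le' hF t)
    rw [Nat.card_eq_fintype_card, Fintype.card_subtype]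
  · intro C _
    obtain ⟨x, rfl⟩ := ConjClasses.mk_surjective C
    exact Finset.mem_filter.2 ⟨Finset.mem_univ _, (invT_spec _).1.trans x.1.2⟩

/-- The growth constants. -/
noncomputable def cst (x : ℝ) : ℕ → ℝ
  | 0 => 1
  | N + 1 => if N = 0 then 1 + x else cst x N * (1 + x ^ (N + 1)) / (1 - x ^ N)

theorem one_le_cst {x : ℝ} (h0 : 0 ≤ x) (h1 : x ≤ 1 / 2) : ∀ N, 1 ≤ cst x N
  | 0 => le_refl _
  | N + 1 => by
    rw [cst]
    split_ifs with h
    · linarith
    · have hy : x ^ N ≤ 1 / 2 := (pow_le_of_le_one h0 (by linarith) h).trans h1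
      have hy0 : 0 ≤ x ^ N := pow_nonneg h0 _
      have hz : 0 ≤ x ^ (N + 1) := pow_nonneg h0 _
      rw [le_div_iff₀ (by linarith), one_mul]
      have ih := one_le_cst h0 h1 N
      nlinarith

theorem kk'_le {q : ℕ} (hq : 2 ≤ q) : ∀ N, 1 ≤ N → ∀ n,
    (kk' q N n : ℝ) ≤ (q : ℝ) ^ n * cst ((q : ℝ)⁻¹) N := by
  have hq0 : (0 : ℝ) < q := by exact_mod_cast (by omega : 0 < q)
  have hx0 : (0 : ℝ) ≤ (q : ℝ)⁻¹ := (inv_pos.2 hq0).le
  have hx2 : (q : ℝ)⁻¹ ≤ 1 / 2 := by
    rw [one_div]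
    exact inv_anti₀ (by norm_num) (by exact_mod_cast hq)
  intro N hN
  induction N, hN using Nat.le_induction with
  | base =>
    intro n
    rw [cst, if_pos rfl]
    rcases Nat.eq_zero_or_pos n with rfl | hn
    · rw [kk'_zero_right, pow_zero, one_mul, Nat.cast_one]; linarith
    · obtain ⟨m, rfl⟩ : ∃ m, n = m + 1 := ⟨n - 1, by omega⟩
      have e : kk' q 1 (m + 1) = (q + 1) * q ^ m := by
        rw [kk', Nat.zero_add, Nat.div_one, Finset.sum_eq_single (m + 1)]
        · simp [kk', w']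
        · intro d hd hdn
          have := Finset.mem_range.1 hd
          rw [show kk' q 0 (m + 1 - 1 * d) = 0 from if_neg (by omega), mul_zero]
        · intro h; simp at h
      rw [e, Nat.cast_mul, Nat.cast_pow, Nat.cast_add, Nat.cast_one, pow_succ]
      apply le_of_eq
      field_simp
  | succ N hN ih =>
    intro n
    set y : ℝ := (q : ℝ)⁻¹ ^ N with hy
    have hy0 : 0 ≤ y := pow_nonneg hx0 N
    have hy2 : y ≤ 1 / 2 := (pow_le_of_le_one hx0 (by linarith) (by omega)).trans hx2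
    have hC := one_le_cst hx0 hx2 N
    set C := cst ((q : ℝ)⁻¹) N with hCdef
    set K := n / (N + 1) with hK
    have hKn : (N + 1) * K ≤ n := Nat.mul_div_le n (N + 1)
    rw [kk', ← hK, Nat.cast_sum, Finset.sum_range_succ']
    have hterm : ∀ d ∈ Finset.range K,
        ((w' q (d + 1) * kk' q N (n - (N + 1) * (d + 1)) : ℕ) : ℝ) ≤
          (q : ℝ) ^ n * C * (1 + (q : ℝ)⁻¹) * y ^ (d + 1) := by
      intro d hd
      have hle : (N + 1) * (d + 1) ≤ n := le_trans (Nat.mul_le_mul le_rfl (Finset.mem_range.1 hd)) hKn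
      obtain ⟨r, hr⟩ : ∃ r, n = (N + 1) * (d + 1) + r := ⟨_, (Nat.add_sub_cancel' hle).symm⟩
      rw [show n - (N + 1) * (d + 1) = r by omega, Nat.cast_mul, w', if_neg (by omega), Nat.add_sub_cancel,
        Nat.cast_mul, Nat.cast_pow, Nat.cast_add, Nat.cast_one]
      refine (mul_le_mul_of_nonneg_left (ih r) (by positivity)).trans (le_of_eq ?_)
      have hexp : (q : ℝ) ^ n * y ^ (d + 1) = (q : ℝ) ^ (d + 1) * (q : ℝ) ^ r := by
        rw [hy, ← pow_mul, inv_pow, hr, show (N + 1) * (d + 1) + r = N * (d + 1) + ((d + 1) + r) by ring,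
          pow_add, pow_add]
        field_simp
      have hqd : ((q : ℝ) + 1) * (q : ℝ) ^ d = (1 + (q : ℝ)⁻¹) * (q : ℝ) ^ (d + 1) := by
        rw [pow_succ]; field_simp
      rw [hqd]
      linear_combination -(1 + (q : ℝ)⁻¹) * C * hexp
    have hfirst : ((w' q 0 * kk' q N (n - (N + 1) * 0) : ℕ) : ℝ) ≤ (q : ℝ) ^ n * C := by
      simpa [w'] using ih n
    refine (add_le_add (Finset.sum_le_sum hterm) hfirst).trans ?_
    rw [← Finset.mul_sum, cst, if_neg (by omega), ← hy, ← hCdef,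
      show (q : ℝ)⁻¹ ^ (N + 1) = (q : ℝ)⁻¹ * y by rw [pow_succ', hy]]
    have hgeo : (∑ d ∈ Finset.range K, y ^ (d + 1)) * (1 - y) ≤ y := by
      rw [Finset.sum_congr rfl fun d _ => pow_succ' y d, ← Finset.mul_sum, mul_assoc, geom_sum_mul_neg]
      nlinarith [pow_nonneg hy0 K]
    set S := ∑ d ∈ Finset.range K, y ^ (d + 1)
    rw [← mul_div_assoc, le_div_iff₀ (by linarith)]
    have hA : 0 ≤ (q : ℝ) ^ n * C * (1 + (q : ℝ)⁻¹) := by positivity
    nlinarith [mul_le_mul_of_nonneg_left hgeo hA]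

theorem cst_le {x K : ℝ} (h0 : 0 ≤ x) (h1 : x ≤ 1 / 2) (hK : 0 ≤ K) {N0 : ℕ} (hN0 : 1 ≤ N0)
    (hb : cst x N0 ≤ K * (1 - 4 * x ^ N0)) : ∀ N, N0 ≤ N → cst x N ≤ K * (1 - 4 * x ^ N) := by
  intro N hN
  induction N, hN using Nat.le_induction with
  | base => exact hb
  | succ N hN ih =>
    have hy0 : 0 ≤ x ^ N := pow_nonneg h0 _
    have hy : x ^ N ≤ 1 / 2 := (pow_le_of_le_one h0 (by linarith) (by omega)).trans h1
    rw [cst, if_neg (by omega), div_le_iff₀ (by linarith), pow_succ']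
    have hz : 0 ≤ x * x ^ N := mul_nonneg h0 hy0
    refine (mul_le_mul_of_nonneg_right ih (by linarith)).trans ?_
    rw [mul_assoc, mul_assoc]
    refine mul_le_mul_of_nonneg_left ?_ hK
    nlinarith [mul_nonneg hy0 hz]

theorem cst_le_four {q : ℕ} (hq : 3 ≤ q) {N : ℕ} (hN : 1 ≤ N) : cst ((q : ℝ)⁻¹) N ≤ 4 := by
  have h0 : (0 : ℝ) ≤ (q : ℝ)⁻¹ := by positivity
  have h1 : (q : ℝ)⁻¹ ≤ 1 / 3 := by
    rw [one_div]
    exact inv_anti₀ (by norm_num) (by exact_mod_cast hq)
  rcases Nat.lt_or_ge N 2 with h | h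
  · obtain rfl : N = 1 := by omega
    rw [cst, if_pos rfl]; linarith
  · have hb : cst ((q : ℝ)⁻¹) 2 ≤ 4 * (1 - 4 * (q : ℝ)⁻¹ ^ 2) := by
      generalize (q : ℝ)⁻¹ = x at h0 h1 ⊢
      simp only [cst]
      norm_num
      rw [div_le_iff₀ (by linarith)]
      nlinarith [mul_le_mul h1 h1 h0 (by norm_num), mul_nonneg h0 h0, mul_nonneg h0 (mul_nonneg h0 h0)]
    refine (cst_le h0 (by linarith) (by norm_num) (by norm_num) hb N h).trans ?_
    nlinarith [pow_nonneg h0 N]

theorem cst_two_le {N : ℕ} (hN : 1 ≤ N) : cst ((2 : ℝ)⁻¹) N ≤ 9.11 := by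
  rcases Nat.lt_or_ge N 4 with h | h
  · interval_cases N <;> norm_num [cst]
  · have hb : cst ((2 : ℝ)⁻¹) 4 ≤ 9.11 * (1 - 4 * (2 : ℝ)⁻¹ ^ 4) := by norm_num [cst]
    refine (cst_le (by norm_num) (by norm_num) (by norm_num) (by norm_num) hb N h).trans ?_
    nlinarith [pow_nonneg (show (0 : ℝ) ≤ 2⁻¹ by norm_num) N]

theorem bound_two {n : ℕ} (hn : 2 ≤ n) : 100 * (kk' 2 n n + extra' 2 n) ≤ 1239 * 2 ^ n := by
  have hK : ∀ m, 1 ≤ m → 100 * kk' 2 m m ≤ 911 * 2 ^ m := fun m hm => by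
    have h := kk'_le (le_refl 2) m hm m
    have h2 : cst (((2 : ℕ) : ℝ)⁻¹) m ≤ 9.11 := by exact_mod_cast cst_two_le hm
    have : ((100 * kk' 2 m m : ℕ) : ℝ) ≤ ((911 * 2 ^ m : ℕ) : ℝ) := by
      push_cast at h h2 ⊢
      nlinarith [pow_pos (show (0 : ℝ) < 2 by norm_num) m]
    exact_mod_cast this
  have hk := hK n (by omega)
  suffices 100 * extra' 2 n ≤ 300 * 2 ^ n by omega
  rcases (Nat.dvd_prime Nat.prime_three).1 (Nat.gcd_dvd_right n 3) with hg | hg
  · rw [extra', show 2 + 1 = 3 from rfl, hg, show (1 : ℕ).divisors.erase 1 = ∅ by decide, Finset.sum_empty]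
    simp
  · rw [extra', show 2 + 1 = 3 from rfl, hg, show (3 : ℕ).divisors.erase 1 = {3} by decide,
      Finset.sum_singleton]
    obtain ⟨k, rfl⟩ : 3 ∣ n := hg ▸ Nat.gcd_dvd_left n 3
    rw [Nat.mul_div_cancel_left k (by norm_num)]
    have hk1 : 1 ≤ k := by omega
    rcases Nat.lt_or_ge k 3 with h | h
    · interval_cases k <;> simp [kk', w', Finset.sum_range_succ]
    · have h2 := hK k hk1
      have e : 2 ^ (3 * k) = 2 ^ (2 * k) * 2 ^ k := by rw [← pow_add]; congr 1; omega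
      have h64 : 2 ^ 6 ≤ 2 ^ (2 * k) := Nat.pow_le_pow_right (by norm_num) (by omega)
      rw [e]
      have := Nat.mul_le_mul_right (2 ^ k) h64
      generalize 2 ^ k = A at *
      generalize 2 ^ (2 * k) = B at *
      norm_num at this ⊢
      nlinarith

theorem bound_ge_three {q : ℕ} (hq : 3 ≤ q) {n : ℕ} (hn : 2 ≤ n) :
    100 * ((kk' q n n : ℝ) + extra' q n) * q ≤ 826 * ((q : ℝ) + 1) * (q : ℝ) ^ n := by
  have hq0 : (0 : ℝ) < q := by exact_mod_cast (by omega : 0 < q)
  have hK : ∀ m, 1 ≤ m → (kk' q m m : ℝ) ≤ 4 * (q : ℝ) ^ m := fun m hm =>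
    (kk'_le (by omega) m hm m).trans (by
      rw [mul_comm]; exact mul_le_mul_of_nonneg_right (cst_le_four hq hm) (by positivity))
  set s := (q + 1).divisors.erase 1 with hs
  have hE : (extra' q n : ℝ) ≤
      4 * (q : ℝ) ^ n * ∑ h ∈ s, ((h : ℝ) ^ 2 - 1) * ((q : ℝ)⁻¹) ^ (h - 1) := by
    rw [extra', Nat.cast_sum, Finset.mul_sum]
    refine le_trans (Finset.sum_le_sum (g := fun h : ℕ => 4 * (q : ℝ) ^ n * (((h : ℝ) ^ 2 - 1) * ((q : ℝ)⁻¹) ^ (h - 1))) fun h hh => ?_) ?_
    · obtain ⟨hne, hdiv⟩ := Finset.mem_erase.1 hh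
      have hdn : h ∣ n := (Nat.dvd_of_mem_divisors hdiv).trans (Nat.gcd_dvd_left _ _)
      have hpos : 0 < h := Nat.pos_of_dvd_of_pos hdn (by omega)
      obtain ⟨k, rfl⟩ := hdn
      rw [Nat.mul_div_cancel_left k hpos]
      have hk : 1 ≤ k := Nat.pos_of_ne_zero fun e => by rw [e, mul_zero] at hn; omega
      rw [Nat.cast_mul, Nat.cast_sub (Nat.one_le_pow _ _ hpos), Nat.cast_pow, Nat.cast_one]
      have hexp : k + (h - 1) ≤ h * k := by
        obtain ⟨a, rfl⟩ : ∃ a, h = a + 1 := ⟨h - 1, by omega⟩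
        simp only [Nat.add_sub_cancel, add_mul, one_mul]
        have := Nat.mul_le_mul_left a hk
        omega
      have hp : (q : ℝ) ^ k ≤ (q : ℝ) ^ (h * k) * (q : ℝ)⁻¹ ^ (h - 1) := by
        rw [inv_pow, ← div_eq_mul_inv, le_div_iff₀ (by positivity), ← pow_add]
        exact pow_le_pow_right₀ (by exact_mod_cast (by omega : 1 ≤ q)) hexp
      have h21 : (0 : ℝ) ≤ (h : ℝ) ^ 2 - 1 := by
        have : (1 : ℝ) ≤ h := by exact_mod_cast hpos
        nlinarith
      refine (mul_le_mul_of_nonneg_left ((hK k hk).trans (mul_le_mul_of_nonneg_left hp (by norm_num))) h21).trans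
        (le_of_eq ?_)
      ring
    · refine Finset.sum_le_sum_of_subset_of_nonneg (Finset.erase_subset_erase _
        (Nat.divisors_subset_of_dvd (by omega) (Nat.gcd_dvd_right _ _))) fun h hh _ => ?_
      have : (1 : ℝ) ≤ h := by
        exact_mod_cast Nat.pos_of_mem_divisors (Finset.mem_of_mem_erase hh)
      have : (0 : ℝ) ≤ (h : ℝ) ^ 2 - 1 := by nlinarith
      positivity
  have hk := hK n (by omega)
  set P := (q : ℝ) ^ n with hP
  have hP0 : 0 ≤ P := by positivity
  rcases Nat.lt_or_ge q 6 with h6 | h6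
  · rw [hs] at hE
    interval_cases q
    · rw [show (3 + 1 : ℕ).divisors.erase 1 = {2, 4} by decide] at hE
      norm_num at hE hk ⊢
      nlinarith
    · rw [show (4 + 1 : ℕ).divisors.erase 1 = {5} by decide] at hE
      norm_num at hE hk ⊢
      nlinarith
    · rw [show (5 + 1 : ℕ).divisors.erase 1 = {2, 3, 6} by decide] at hE
      norm_num at hE hk ⊢
      nlinarith
  · have hx : (q : ℝ)⁻¹ * 3 ≤ 1 / 2 := by
      have : (q : ℝ)⁻¹ ≤ (6 : ℝ)⁻¹ := inv_anti₀ (by norm_num) (by exact_mod_cast h6)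
      linarith
    have hsum : ∑ h ∈ s, ((h : ℝ) ^ 2 - 1) * ((q : ℝ)⁻¹) ^ (h - 1) ≤ 1 := by
      have hterm : ∀ h ∈ s, ((h : ℝ) ^ 2 - 1) * ((q : ℝ)⁻¹) ^ (h - 1) ≤ (1 / 2 : ℝ) ^ (h - 1) := by
        intro h hh
        have h2 : 2 ≤ h := by
          have := Nat.pos_of_mem_divisors (Finset.mem_of_mem_erase hh)
          have := Finset.ne_of_mem_erase hh
          omega
        have h3 : ∀ a, 1 ≤ a → ((a + 1 : ℕ) : ℝ) ^ 2 - 1 ≤ 3 ^ a := by
          intro a ha
          induction a, ha using Nat.le_induction with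
          | base => norm_num
          | succ a ha ih =>
            rw [pow_succ 3]
            push_cast at ih ⊢
            have : (1 : ℝ) ≤ a := by exact_mod_cast ha
            nlinarith
        obtain ⟨a, rfl⟩ : ∃ a, h = a + 1 := ⟨h - 1, by omega⟩
        rw [Nat.add_sub_cancel]
        refine (mul_le_mul_of_nonneg_right (h3 a (by omega)) (by positivity)).trans ?_
        rw [← mul_pow]
        exact pow_le_pow_left₀ (by positivity) (by linarith) a
      refine (Finset.sum_le_sum hterm).trans ?_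
      refine le_trans (b := ∑ h ∈ Finset.Ico 2 (q + 2), (1 / 2 : ℝ) ^ (h - 1)) ?_ ?_
      · refine Finset.sum_le_sum_of_subset_of_nonneg (fun h hh => ?_) fun _ _ _ => by positivity
        have := Nat.pos_of_mem_divisors (Finset.mem_of_mem_erase hh)
        have := Finset.ne_of_mem_erase hh
        have := Nat.divisor_le (Finset.mem_of_mem_erase hh)
        simp only [Finset.mem_Ico]
        omega
      · rw [Finset.sum_Ico_eq_sum_range,
          Finset.sum_congr rfl fun i _ => by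
            show _ = (1 / 2 : ℝ) ^ i * (1 / 2)
            rw [← pow_succ]; congr 1; omega,
          ← Finset.sum_mul, geom_sum_eq (by norm_num)]
        have : (0 : ℝ) ≤ (1 / 2 : ℝ) ^ (q + 2 - 2) := by positivity
        rw [show ((1 : ℝ) / 2 - 1) = -(1 / 2) by norm_num, div_mul_eq_mul_div, div_le_iff_of_neg (by norm_num)]
        linarith
    have hE' : (extra' q n : ℝ) ≤ 4 * P := hE.trans (mul_le_of_le_one_right (by positivity) hsum)
    nlinarith

include hF in
theorem card_conjClasses_SU_le (hn : 2 ≤ n) :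
    100 * Nat.card (ConjClasses (Cfsg.SU n F q)) ≤ 826 * q ^ (n - 1) := by
  have hq : 2 ≤ q := Unitary.one_lt_q hF
  have h := mul_card_conjClasses_le hF (show 1 ≤ n by omega)
  refine Nat.le_of_mul_le_mul_left ?_ (show 0 < q + 1 by omega)
  refine le_trans (le_of_eq (by ring)) ((Nat.mul_le_mul_left 100 h).trans ?_)
  obtain ⟨m, rfl⟩ : ∃ m, n = m + 1 := ⟨n - 1, by omega⟩
  rw [Nat.add_sub_cancel]
  rcases Nat.lt_or_ge q 3 with h3 | h3
  · obtain rfl : q = 2 := by omega
    refine (bound_two hn).trans (le_of_eq ?_)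
    rw [pow_succ]; ring
  · have hb := bound_ge_three h3 hn
    have hq0 : (0 : ℝ) < q := by exact_mod_cast (by omega : 0 < q)
    have : ((100 * (kk' q (m + 1) (m + 1) + extra' q (m + 1)) : ℕ) : ℝ) ≤
        (((q + 1) * (826 * q ^ m) : ℕ) : ℝ) := by
      push_cast
      refine le_of_mul_le_mul_right (hb.trans (le_of_eq ?_)) hq0
      rw [pow_succ]; ring
    exact_mod_cast this

end Cfsg.Agent.Lib.ClassesSU
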