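import Cfsg.Agent.Lib.ClassesSU.Dual
import Cfsg.Agent.Lib.GLFlags.CyclicForm
import Cfsg.Agent.Lib.LinearOrders.UnitAlgebra

/-!
A model of a unitary matrix on the product of its cyclic modules, and the determinants of its
unitary centraliser.
-/

set_option autoImplicit false
set_option linter.unusedSectionVars false
set_option linter.style.haveILetI false

namespace Cfsg.Agent.Lib.ClassesSU

open Polynomial
open Cfsg.Agent.Lib.Unitary (conj conj_apply)
open Cfsg.Agent.Lib.ClassesGLBound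
open Cfsg.Agent.Lib.ClassesSL
open Cfsg.Agent.Lib.LinearOrders (IsUnitAlg conj_ne_id)

universe u

variable {F : Type u} [Field F] [Fintype F] {q n : ℕ} (hF : Fintype.card F = q ^ 2)

theorem exists_theta : ∃ θ : F, conj hF θ - θ ≠ 0 := by
  by_contra hall
  simp only [not_exists, not_not] at hall
  exact conj_ne_id hF (RingHom.ext fun x => sub_eq_zero.1 (hall x))

/-- The dual key. -/
noncomputable def dk (k : ℕ × F[X]) : ℕ × F[X] := (k.1, dualP hF k.2)

/-- The root in a cyclic module. -/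
noncomputable def xQ (k : ℕ × F[X]) : Q k := Ideal.Quotient.mk _ X

/-- The inverse of the root. -/
noncomputable def xiQ (k : ℕ × F[X]) : Q k :=
  -(algebraMap F (Q k) ((k.2 ^ k.1).coeff 0)⁻¹) * aeval (xQ k) (k.2 ^ k.1).divX

theorem aeval_xQ (k : ℕ × F[X]) (g : F[X]) : aeval (xQ k) g = Ideal.Quotient.mk _ g := by
  induction g using Polynomial.induction_on with
  | C a => rw [aeval_C]; rfl
  | add a b ha hb => rw [map_add, map_add, ha, hb]
  | monomial m a ih => rw [pow_succ, ← mul_assoc, map_mul, aeval_X, ih, map_mul]; rfl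

theorem aeval_xQ_self (k : ℕ × F[X]) : aeval (xQ k) (k.2 ^ k.1) = 0 := by
  rw [aeval_xQ, Ideal.Quotient.eq_zero_iff_mem]
  exact Ideal.mem_span_singleton_self _

theorem coeff_zero_pow_ne {k : ℕ × F[X]} (hk : k.2.coeff 0 ≠ 0) : (k.2 ^ k.1).coeff 0 ≠ 0 := by
  rw [coeff_zero_eq_eval_zero, eval_pow, ← coeff_zero_eq_eval_zero]
  exact pow_ne_zero _ hk

theorem xQ_mul_xiQ {k : ℕ × F[X]} (hk : k.2.coeff 0 ≠ 0) : xQ k * xiQ k = 1 := by
  set g := k.2 ^ k.1 with hg
  have h0 := coeff_zero_pow_ne hk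
  have h : aeval (xQ k) (Polynomial.X * g.divX + Polynomial.C (g.coeff 0)) = 0 := by
    rw [X_mul_divX_add]; exact aeval_xQ_self k
  rw [map_add, map_mul, aeval_X, aeval_C] at h
  have hc : algebraMap F (Q k) (g.coeff 0)⁻¹ * algebraMap F _ (g.coeff 0) = 1 := by
    rw [← map_mul, inv_mul_cancel₀ h0, map_one]
  show xQ k * (-(algebraMap F (Q k) (g.coeff 0)⁻¹) * aeval (xQ k) g.divX) = 1
  linear_combination -(algebraMap F (Q k) (g.coeff 0)⁻¹) * h + hc

/-- Evaluation of conjugated coefficients at the inverse root. -/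
noncomputable def psi (k : ℕ × F[X]) : F[X] →+* Q k :=
  eval₂RingHom ((algebraMap F (Q k)).comp (conj hF)) (xiQ k)

theorem psi_kills {k : ℕ × F[X]} (hm : k.2.Monic) (h0 : k.2.coeff 0 ≠ 0) :
    psi hF k (dualP hF k.2 ^ k.1) = 0 := by
  set g' := dualP hF k.2 ^ k.1 with hg'
  have hg'0 : g'.coeff 0 ≠ 0 := coeff_zero_pow_ne (k := (k.1, dualP hF k.2)) (dualP_coeff_zero_ne hF hm h0)
  have hd : dualP hF g' = k.2 ^ k.1 := by rw [hg', dualP_pow, dualP_dualP hF hm h0]
  have hrev : (g'.map (conj hF)).reverse = C (conj hF (g'.coeff 0)) * k.2 ^ k.1 := by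
    rw [← hd, dualP, ← mul_assoc, ← C_mul, mul_inv_cancel₀ (conj_ne_zero hF hg'0), C_1, one_mul]
  have h1 := aeval_reverse (F := F) (xQ_mul_xiQ h0) (g'.map (conj hF))
  rw [hrev, map_mul, aeval_xQ_self, mul_zero] at h1
  have hu : IsUnit (xQ k) := IsUnit.of_mul_eq_one _ (xQ_mul_xiQ h0)
  have h2 := (hu.pow _).mul_right_eq_zero.1 h1.symm
  rw [aeval_def, eval₂_map] at h2
  exact h2

/-- The semilinear map between dual cyclic modules. -/
noncomputable def tauQ (k k' : ℕ × F[X]) (h : k' = dk hF k) (hm : k.2.Monic) (h0 : k.2.coeff 0 ≠ 0) :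
    Q k' →+* Q k :=
  Ideal.Quotient.lift _ (psi hF k) fun a ha => by
    obtain ⟨c, rfl⟩ := Ideal.mem_span_singleton.1 ha
    rw [map_mul, h]
    show psi hF k (dualP hF k.2 ^ k.1) * _ = 0
    rw [psi_kills hF hm h0, zero_mul]

theorem tauQ_mk (k k' : ℕ × F[X]) (h : k' = dk hF k) (hm : k.2.Monic) (h0 : k.2.coeff 0 ≠ 0) (g : F[X]) :
    tauQ hF k k' h hm h0 (Ideal.Quotient.mk _ g) = psi hF k g := rfl

theorem tauQ_algebraMap (k k' : ℕ × F[X]) (h : k' = dk hF k) (hm : k.2.Monic) (h0 : k.2.coeff 0 ≠ 0) (c : F) :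
    tauQ hF k k' h hm h0 (algebraMap F (Q k') c) = algebraMap F (Q k) (conj hF c) := by
  show psi hF k (algebraMap F F[X] c) = _
  rw [Polynomial.algebraMap_eq, psi, coe_eval₂RingHom, eval₂_C]
  rfl

theorem tauQ_xQ (k k' : ℕ × F[X]) (h : k' = dk hF k) (hm : k.2.Monic) (h0 : k.2.coeff 0 ≠ 0) :
    tauQ hF k k' h hm h0 (xQ k') = xiQ k := by
  show psi hF k X = _
  rw [psi, coe_eval₂RingHom, eval₂_X]

theorem tauQ_xiQ (k k' : ℕ × F[X]) (h : k' = dk hF k) (hm : k.2.Monic) (h0 : k.2.coeff 0 ≠ 0)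
    (h0' : k'.2.coeff 0 ≠ 0) : tauQ hF k k' h hm h0 (xiQ k') = xQ k := by
  have e := congrArg (tauQ hF k k' h hm h0) (xQ_mul_xiQ h0')
  rw [map_mul, map_one, tauQ_xQ] at e
  calc tauQ hF k k' h hm h0 (xiQ k') = xQ k * xiQ k * tauQ hF k k' h hm h0 (xiQ k') := by
        rw [xQ_mul_xiQ h0, one_mul]
    _ = xQ k := by rw [mul_assoc, e, mul_one]

theorem tauQ_tauQ (k k' : ℕ × F[X]) (h : k' = dk hF k) (h' : k = dk hF k') (hm : k.2.Monic)
    (h0 : k.2.coeff 0 ≠ 0) (hm' : k'.2.Monic) (h0' : k'.2.coeff 0 ≠ 0) :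
    (tauQ hF k k' h hm h0).comp (tauQ hF k' k h' hm' h0') = RingHom.id (Q k) := by
  refine Ideal.Quotient.ringHom_ext (Polynomial.ringHom_ext (fun c => ?_) ?_)
  · show tauQ hF k k' h hm h0 (tauQ hF k' k h' hm' h0' (algebraMap F (Q k) c)) = algebraMap F (Q k) c
    rw [tauQ_algebraMap, tauQ_algebraMap, conj_conj]
  · show tauQ hF k k' h hm h0 (tauQ hF k' k h' hm' h0' (xQ k)) = xQ k
    rw [tauQ_xQ, tauQ_xiQ hF k k' h hm h0 h0']

/-- The keys can be paired by duality. -/
theorem exists_pairing (A : GL (Fin n) F) (hA : A ∈ Cfsg.GU n F q) :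
    ∃ π : KI A → KI A, (∀ i, π (π i) = i) ∧ ∀ i, keyOf A (π i) = dk hF (keyOf A i) := by
  classical
  obtain ⟨hkey, -, -⟩ := keyOf_spec A
  let fib := fun k : ℕ × F[X] => {i // keyOf A i = k}
  let e := fun k => Fintype.equivFin (fib k)
  let r : KI A → ℕ := fun i => (e (keyOf A i) ⟨i, rfl⟩ : ℕ)
  have hr : ∀ j k (h : keyOf A j = k), r j = (e k ⟨j, h⟩ : ℕ) := fun j k h => by subst h; rfl
  have hinj : ∀ i j, keyOf A i = keyOf A j → r i = r j → i = j := fun i j hk h => by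
    rw [hr i _ hk, hr j _ rfl] at h
    exact congrArg Subtype.val ((e (keyOf A j)).injective (Fin.ext h))
  have hex : ∀ i, ∃ j, keyOf A j = dk hF (keyOf A i) ∧ r j = r i := fun i => by
    obtain ⟨h1, h2, h3, h4⟩ := hkey i
    have hc : Fintype.card (fib (dk hF (keyOf A i))) = Fintype.card (fib (keyOf A i)) :=
      card_fibre_dualP hF A hA _ h1 h2 h3 h4
    let j := (e (dk hF (keyOf A i))).symm ⟨r i, by rw [hc]; exact (e (keyOf A i) ⟨i, rfl⟩).2⟩
    refine ⟨j.1, j.2, ?_⟩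
    rw [hr j.1 _ j.2, Subtype.coe_eta, Equiv.apply_symm_apply]
  choose π hπ1 hπ2 using hex
  refine ⟨π, fun i => hinj _ _ ?_ ((hπ2 _).trans (hπ2 i)), hπ1⟩
  rw [hπ1, hπ1]
  obtain ⟨-, -, h3, h4⟩ := hkey i
  exact Prod.ext rfl (dualP_dualP hF h3 h4)

include hF in
/-- A nondegenerate functional can be made compatible with a semilinear involution. -/
theorem exists_unitAlg {A : Type u} [CommRing A] [Algebra F A] [Module.Finite F A] (τ : A →+* A)
    (hττ : ∀ x, τ (τ x) = x) (hτc : ∀ c : F, τ (algebraMap F A c) = algebraMap F A (c ^ q))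
    (l : A →ₗ[F] F) (hl : ∀ x, (∀ y, l (x * y) = 0) → x = 0) :
    ∃ l' : A →ₗ[F] F, IsUnitAlg q τ l' := by
  haveI : Finite A := Module.finite_of_finite F
  have hτs : ∀ (c : F) x, τ (c • x) = conj hF c • τ x := fun c x => by
    rw [Algebra.smul_def, Algebra.smul_def, map_mul, hτc]; rfl
  let μ : A →ₗ[F] F :=
    { toFun := fun x => conj hF (l (τ x))
      map_add' := fun x y => by rw [map_add, map_add, map_add]
      map_smul' := fun c x => by
        rw [hτs, map_smul, smul_eq_mul, map_mul, conj_conj, RingHom.id_apply, smul_eq_mul] }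
  let Λ : A →ₗ[F] Module.Dual F A := (LinearMap.mul F A).compr₂ l
  have hΛ : ∀ x y, Λ x y = l (x * y) := fun x y => rfl
  have hinj : Function.Injective Λ := by
    rw [injective_iff_map_eq_zero]
    exact fun x hx => hl x fun y => by rw [← hΛ, hx]; rfl
  obtain ⟨u, hu⟩ := (LinearMap.injective_iff_surjective_of_finrank_eq_finrank
    Subspace.dual_finrank_eq.symm).1 hinj μ
  have hu' : ∀ x, conj hF (l (τ x)) = l (u * x) := fun x => (LinearMap.congr_fun hu x).symm
  have huu : u * τ u = 1 := by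
    refine hinj (LinearMap.ext fun x => ?_)
    rw [hΛ, hΛ, one_mul, mul_assoc, ← hu', map_mul, hττ, ← hu', hττ, conj_conj]
  obtain ⟨θ, hθ⟩ := exists_theta hF
  obtain ⟨b, hb, hub⟩ := InvolutionNorm.exists_unit_of_norm_one τ hττ
    (θ := algebraMap F A θ) (by
      rw [hτc, ← map_sub]
      exact (IsUnit.mk0 _ hθ).map _) huu
  let l' : A →ₗ[F] F := l.comp (LinearMap.mulLeft F b)
  have hl'e : ∀ x, l' x = l (b * x) := fun x => rfl
  have hl' : ∀ x, conj hF (l' (τ x)) = l' x := fun x => by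
    rw [hl'e, hl'e, show b * τ x = τ (τ b * x) by rw [map_mul, hττ], hu', ← mul_assoc, hub]
  refine ⟨l', hττ, hτc, fun a => ?_, fun x hx => ?_⟩
  · rw [← hl' a]
    exact (Unitary.pow_q_q hF _).symm
  · refine hb.mul_right_eq_zero.1 (hl _ fun y => ?_)
    rw [mul_assoc]
    exact hx y

include hF in
/-- A unitary algebra acts by matrices compatible with the standard form. -/
theorem exists_rho {A : Type u} [CommRing A] [Algebra F A] [Module.Finite F A] {σ : A →+* A}
    {ℓ : A →ₗ[F] F} (hA : IsUnitAlg q σ ℓ) (hfin : Module.finrank F A = n) :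
    ∃ (Φ : A ≃ₗ[F] (Fin n → F)) (ρ : A →ₐ[F] Matrix (Fin n) (Fin n) F),
      (∀ a x, (ρ a).mulVec (Φ x) = Φ (a * x)) ∧
      (∀ v, v * σ v = 1 → ∀ g : GL (Fin n) F, (g : Matrix (Fin n) (Fin n) F) = ρ v → g ∈ Cfsg.GU n F q) ∧
      (∀ a, (ρ a).det = Algebra.norm F a) ∧ ∀ a, Algebra.norm F (σ a) = conj hF (Algebra.norm F a) := by
  classical
  have hsmul : ∀ (c : F) (a : A), σ (c • a) = c ^ q • σ a := by
    intro c a
    rw [Algebra.smul_def, map_mul, hA.semilin, ← Algebra.smul_def]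
  let B : A →ₛₗ[conj hF] A →ₗ[F] F := LinearMap.mk₂'ₛₗ (conj hF) (RingHom.id F)
    (fun a b => ℓ (σ a * b))
    (fun a a' b => by rw [map_add, add_mul, map_add])
    (fun c a b => by rw [hsmul, smul_mul_assoc, map_smul]; rfl)
    (fun a b b' => by rw [mul_add, map_add])
    (fun c a b => by rw [mul_smul_comm, map_smul]; rfl)
  have hBapp : ∀ a b, B a b = ℓ (σ a * b) := fun _ _ => rfl
  have hS : B.IsSymm := ⟨fun a b => by
    rw [hBapp, hBapp, conj_apply, ← hA.skew, map_mul, hA.invol, mul_comm]⟩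
  have hleft : ∀ a, (∀ b, B a b = 0) → a = 0 := by
    intro a ha
    have h := hA.nondeg (σ a) fun b => ha b
    rw [← hA.invol a, h, map_zero]
  have hnd : B.Nondegenerate := ⟨hleft, fun b hb => hleft b fun a => by
    rw [← hS.eq, hb a, map_zero]⟩
  obtain ⟨b, hb⟩ := Forms.exists_orthonormal_herm (conj hF) (conj_ne_id hF)
    (fun a => Unitary.pow_q_q hF a) n B hS hnd hfin
  have hkey : ∀ a a' : A, Cfsg.hermForm n F q (b.equivFun a) (b.equivFun a') = B a' a := by
    intro a a'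
    conv_rhs => rw [← b.sum_equivFun a, ← b.sum_equivFun a']
    generalize b.equivFun a = y
    generalize b.equivFun a' = z
    simp [Cfsg.hermForm, map_sum, LinearMap.map_smulₛₗ, LinearMap.sum_apply, hb, mul_comm]
  have hmv : ∀ a x, Matrix.mulVec (Algebra.leftMulMatrix b a) (b.equivFun x) = b.equivFun (a * x) :=
    fun a x => Algebra.leftMulMatrix_mulVec_repr b a x
  refine ⟨b.equivFun, Algebra.leftMulMatrix b, hmv, ?_, fun a => (Algebra.norm_eq_matrix_det b a).symm,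
    fun a => ?_⟩
  · intro v hv g hg x y
    obtain ⟨a, rfl⟩ := b.equivFun.surjective x
    obtain ⟨a', rfl⟩ := b.equivFun.surjective y
    simp only [Units.coeHom_apply, hg]
    rw [hmv, hmv, hkey, hkey, hBapp, hBapp, map_mul σ,
      show σ v * σ a' * (v * a) = v * σ v * (σ a' * a) by ring, hv, one_mul]
  · have hrepr : ∀ x i, b.repr x i = B (b i) x := fun x i => by
      conv_rhs => rw [← b.sum_repr x, map_sum]
      rw [Finset.sum_eq_single i (fun j _ hj => by
        rw [map_smul, hb, if_neg (Ne.symm hj), smul_zero]) (by simp), map_smul, hb, if_pos rfl,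
        smul_eq_mul, mul_one]
    have e : Algebra.leftMulMatrix b (σ a) = ((Algebra.leftMulMatrix b a).map (conj hF)).transpose := by
      ext i j
      rw [Algebra.leftMulMatrix_eq_repr_mul, Matrix.transpose_apply, Matrix.map_apply,
        Algebra.leftMulMatrix_eq_repr_mul, hrepr, hrepr, hBapp, hBapp, conj_apply, ← hA.skew, map_mul σ,
        map_mul σ, hA.invol]
      congr 1
      ring
    rw [Algebra.norm_eq_matrix_det b, Algebra.norm_eq_matrix_det b, e, Matrix.det_transpose,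
      ← RingHom.mapMatrix_apply, ← RingHom.map_det]

include hF in
theorem exists_hilbert90 {δ : Fˣ} (hδ : δ ^ (q + 1) = 1) : ∃ c : Fˣ, c * ((c ^ q)⁻¹) = δ := by
  classical
  obtain ⟨γ, hγ⟩ := IsCyclic.exists_generator (α := Fˣ)
  obtain ⟨k, hk⟩ := Submonoid.mem_powers_iff _ _ |>.1 (mem_powers_iff_mem_zpowers.2 (hγ δ))
  have hord : orderOf γ = q ^ 2 - 1 := by
    rw [orderOf_eq_card_of_forall_mem_zpowers hγ, Nat.card_eq_fintype_card, Fintype.card_units, hF]
  have hq := Unitary.one_lt_q hF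
  have hdiv : q ^ 2 - 1 = (q + 1) * (q - 1) := by
    rw [← Nat.sq_sub_sq q 1, one_pow]
  rw [← hk, ← pow_mul] at hδ
  have h1 : q - 1 ∣ k := by
    have := orderOf_dvd_of_pow_eq_one hδ
    rw [hord, hdiv, mul_comm k] at this
    exact Nat.dvd_of_mul_dvd_mul_left (by omega) this
  obtain ⟨m, rfl⟩ := h1
  refine ⟨(γ ^ m)⁻¹, ?_⟩
  rw [← hk, inv_pow, inv_inv, ← pow_mul, mul_comm (q - 1), Nat.mul_sub, mul_one, inv_mul_eq_iff_eq_mul,
    ← pow_add, Nat.add_sub_cancel' (Nat.le_mul_of_pos_right m (by omega))]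

include hF in
/-- The determinants of the unitary centraliser of a unitary matrix. -/
theorem exists_centralising (A : GL (Fin n) F) (hA : A ∈ Cfsg.GU n F q) (j : Fin n)
    (hj : (invT A).1 j ≠ 1) {δ : Fˣ} (hδ : δ ^ (q + 1) = 1) :
    ∃ B ∈ Cfsg.GU n F q, Commute B A ∧ Matrix.GeneralLinearGroup.det B = δ ^ ((j : ℕ) + 1) := by
  classical
  obtain ⟨hkey, hsum, ⟨φ⟩⟩ := keyOf_spec A
  set key := keyOf A with hkeydef
  haveI hmon : ∀ i, Fact ((key i).2.Monic) := fun i => ⟨(hkey i).2.2.1⟩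
  haveI : ∀ i, FiniteDimensional F (Q (key i)) := fun i => finite_Q (key i)
  obtain ⟨π, hππ, hπ⟩ := exists_pairing hF A hA
  let σ : (∀ i, Q (key i)) →+* (∀ i, Q (key i)) := RingHom.pi fun i =>
    (tauQ hF (key i) (key (π i)) (hπ i) (hkey i).2.2.1 (hkey i).2.2.2).comp
      (Pi.evalRingHom (fun i => Q (key i)) (π i))
  have hσ : ∀ a i, σ a i = tauQ hF (key i) (key (π i)) (hπ i) (hkey i).2.2.1 (hkey i).2.2.2 (a (π i)) :=
    fun a i => rfl
  have hσσ : ∀ a, σ (σ a) = a := fun a => funext fun i => by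
    have key' : ∀ l (hl : l = i) (h : key l = dk hF (key (π i))),
        tauQ hF (key i) (key (π i)) (hπ i) (hkey i).2.2.1 (hkey i).2.2.2
          (tauQ hF (key (π i)) (key l) h (hkey _).2.2.1 (hkey _).2.2.2 (a l)) = a i := by
      rintro l rfl h
      exact RingHom.congr_fun (tauQ_tauQ hF (key l) (key (π l)) (hπ l) h (hkey _).2.2.1 (hkey _).2.2.2
        (hkey _).2.2.1 (hkey _).2.2.2) (a l)
    exact key' _ (hππ i) (hπ (π i))
  have hσc : ∀ c : F, σ (algebraMap F _ c) = algebraMap F _ (c ^ q) := fun c => funext fun i => by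
    rw [hσ, Pi.algebraMap_apply, tauQ_algebraMap, Pi.algebraMap_apply, conj_apply]
  have hfun : ∀ i : KI A, ∃ l : Q (key i) →ₗ[F] F, ∀ x : Q (key i), (∀ y, l (x * y) = 0) → x = 0 :=
    fun i => GLFlags.CyclicForm.exists_functional (F := F) (f := (key i).2 ^ (key i).1)
      (pow_ne_zero _ (hkey i).2.2.1.ne_zero)
  choose l hl using hfun
  let L : (∀ i, Q (key i)) →ₗ[F] F := ∑ i, (l i).comp (LinearMap.proj i)
  have hL : ∀ x, (∀ y, L (x * y) = 0) → x = 0 := fun x hx => funext fun i => hl i (x i) fun y => by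
    have h := hx (Pi.single i y)
    simp only [L, LinearMap.sum_apply, LinearMap.comp_apply, LinearMap.proj_apply, Pi.mul_apply] at h
    rw [Finset.sum_eq_single i (fun b _ hb => by
      show l b (x b * (Pi.single i y : ∀ k, Q (key k)) b) = 0
      rw [Pi.single_eq_of_ne hb, mul_zero, map_zero]) (by simp)] at h
    change l i (x i * (Pi.single i y : ∀ k, Q (key k)) i) = 0 at h
    rw [
      Pi.single_eq_same] at h
    exact h
  obtain ⟨L', hU⟩ := exists_unitAlg hF σ hσσ hσc L hL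
  have hfin : Module.finrank F (∀ i, Q (key i)) = n := by
    rw [Module.finrank_pi_fintype]
    refine Eq.trans (Finset.sum_congr rfl fun i _ => ?_) hsum
    exact (finrank_quotient_span_eq_natDegree).trans (natDegree_pow _ _)
  obtain ⟨Φ, ρ, hρ, hρU, hρdet, hnorm⟩ := exists_rho hF hU hfin
  -- the image of the root
  let x : ∀ i, Q (key i) := fun i => xQ (key i)
  have hx : x * σ x = 1 := funext fun i => by
    show xQ (key i) * tauQ hF (key i) (key (π i)) (hπ i) (hkey i).2.2.1 (hkey i).2.2.2 (xQ (key (π i))) = 1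
    rw [tauQ_xQ, xQ_mul_xiQ (hkey i).2.2.2]
  let mkG : ∀ v : (∀ i, Q (key i)), IsUnit v → GL (Fin n) F := fun v hv => (hv.map ρ).unit
  have hxu : IsUnit x := IsUnit.of_mul_eq_one _ hx
  set A' := mkG x hxu with hA'
  have hA'U : A' ∈ Cfsg.GU n F q := hρU x hx _ rfl
  set a := Matrix.toLin' (A : Matrix (Fin n) (Fin n) F) with ha
  let Ψ : (Fin n → F) ≃ₗ[F] (∀ i, Q (key i)) := (Module.AEval'.of a).trans (φ.restrictScalars F)
  have hΨ : ∀ v, Ψ (a v) = x * Ψ v := fun v => by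
    have h1 : Ψ (a v) = (X : F[X]) • Ψ v := by
      show φ (Module.AEval'.of a (a v)) = (X : F[X]) • φ (Module.AEval'.of a v)
      rw [← map_smul, Module.AEval'.X_smul_of]
    rw [h1]
    funext i
    rfl
  let e : (Fin n → F) ≃ₗ[F] (Fin n → F) := Ψ.trans Φ
  have he : ∀ v, e (Matrix.toLin' (A : Matrix (Fin n) (Fin n) F) v) =
      Matrix.toLin' (A' : Matrix (Fin n) (Fin n) F) (e v) := fun v => by
    show Φ (Ψ (a v)) = Matrix.toLin' (ρ x) (Φ (Ψ v))
    rw [hΨ, Matrix.toLin'_apply, hρ]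
  obtain ⟨w, hw⟩ := JordanType.isConj_of_intertwine (A := (A : Matrix (Fin n) (Fin n) F))
    (B := (A' : Matrix (Fin n) (Fin n) F)) e (fun v => by
      rw [map_sub, map_sub, Matrix.toLin'_one, LinearMap.sub_apply, LinearMap.sub_apply, map_sub, he]
      rfl)
  have hconj : IsConj (⟨A, hA⟩ : Cfsg.GU n F q) ⟨A', hA'U⟩ :=
    (Cfsg.Agent.S2587.result hF _ _).2 ⟨toUnits w, Units.ext hw⟩
  obtain ⟨h, hh⟩ := isConj_iff.1 hconj
  -- the unit of prescribed norm
  obtain ⟨i, hi⟩ : ∃ i, (key i).1 = (j : ℕ) + 1 := by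
    by_contra hcon
    simp only [not_exists] at hcon
    apply hj
    show tup key n j = 1
    rw [tup, Finset.filter_false_of_mem fun i _ => hcon i, Finset.prod_empty]
  obtain ⟨c, hc⟩ := exists_hilbert90 hF hδ
  obtain ⟨u, hu⟩ := exists_unit_det (hkey i).2.2.1 (hkey i).2.1 (hkey i).1 c
  let u' : ∀ k, Q (key k) := Function.update 1 i (u : Q (key i))
  have hu'u : IsUnit u' := Pi.isUnit_iff.2 fun k => by
    by_cases hk : k = i
    · subst hk; rw [show u' k = (u : Q (key k)) from Function.update_self ..]; exact u.isUnit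
    · rw [show u' k = 1 from Function.update_of_ne hk ..]; exact isUnit_one
  have hnu : Algebra.norm F u' = (c : F) ^ ((j : ℕ) + 1) := by
    rw [Algebra.norm_apply]
    rw [show Algebra.lmul F (∀ k, Q (key k)) u' =
      LinearMap.pi fun k => (Algebra.lmul F (Q (key k)) (u' k)).comp (LinearMap.proj k) from
        LinearMap.ext fun v => funext fun k => rfl]
    rw [det_piMap, Finset.prod_eq_single i]
    · rw [show u' i = (u : Q (key i)) from Function.update_self .., hu, hi]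
    · intro k _ hk
      rw [show u' k = 1 from Function.update_of_ne hk .., map_one, map_one]
    · simp
  set w' := hu'u.unit with hw'
  let σu : (∀ k, Q (key k))ˣ := Units.map σ.toMonoidHom w'
  let y : (∀ k, Q (key k)) := ((w' * σu⁻¹ : (∀ k, Q (key k))ˣ) : ∀ k, Q (key k))
  have hy : y * σ y = 1 := by
    have e2 : Units.map σ.toMonoidHom σu = w' := Units.ext (hσσ _)
    show ((w' * σu⁻¹ : (∀ k, Q (key k))ˣ) : ∀ k, Q (key k)) *
      (Units.map σ.toMonoidHom (w' * σu⁻¹) : (∀ k, Q (key k))ˣ) = 1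
    rw [map_mul, map_inv, e2, ← Units.val_mul]
    show ((w' * σu⁻¹ * (σu * w'⁻¹) : (∀ k, Q (key k))ˣ) : ∀ k, Q (key k)) = 1
    rw [show w' * σu⁻¹ * (σu * w'⁻¹) = 1 by group, Units.val_one]
  have hyu : IsUnit y := Units.isUnit _
  set B' := mkG y hyu with hB'
  have hB'U : B' ∈ Cfsg.GU n F q := hρU y hy _ rfl
  have hB'c : Commute B' A' := Units.ext (by
    show ρ y * ρ x = ρ x * ρ y
    rw [← map_mul, ← map_mul, mul_comm])
  refine ⟨(h : GL (Fin n) F)⁻¹ * B' * h, mul_mem (mul_mem (inv_mem h.2) hB'U) h.2, ?_, ?_⟩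
  · have hh' : (h : GL (Fin n) F) * A * (h : GL (Fin n) F)⁻¹ = A' := congrArg Subtype.val hh
    show (h : GL (Fin n) F)⁻¹ * B' * h * A = A * ((h : GL (Fin n) F)⁻¹ * B' * h)
    calc (h : GL (Fin n) F)⁻¹ * B' * h * A
        = (h : GL (Fin n) F)⁻¹ * (B' * ((h : GL (Fin n) F) * A * (h : GL (Fin n) F)⁻¹)) * h := by group
      _ = (h : GL (Fin n) F)⁻¹ * (((h : GL (Fin n) F) * A * (h : GL (Fin n) F)⁻¹) * B') * h := by
          rw [hh', hB'c.eq]
      _ = A * ((h : GL (Fin n) F)⁻¹ * B' * h) := by group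
  · rw [map_mul, map_mul, map_inv, mul_comm ((Matrix.GeneralLinearGroup.det (h : GL (Fin n) F))⁻¹),
      mul_assoc, inv_mul_cancel, mul_one]
    have e : Units.map (Algebra.norm F : (∀ k, Q (key k)) →* F) w' = c ^ ((j : ℕ) + 1) :=
      Units.ext (by rw [Units.val_pow_eq_pow_val]; exact hnu)
    have eσ : Units.map (Algebra.norm F : (∀ k, Q (key k)) →* F) σu = (c ^ q) ^ ((j : ℕ) + 1) := by
      refine Units.ext ?_
      show Algebra.norm F (σ u') = _
      rw [hnorm, hnu, conj_apply, Units.val_pow_eq_pow_val, Units.val_pow_eq_pow_val, ← pow_mul, ← pow_mul,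
        mul_comm]
    have : Matrix.GeneralLinearGroup.det B' =
        Units.map (Algebra.norm F : (∀ k, Q (key k)) →* F) (w' * σu⁻¹) := Units.ext (hρdet y)
    rw [this, map_mul, map_inv, e, eσ, ← hc, mul_pow, inv_pow]

end Cfsg.Agent.Lib.ClassesSU
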